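import Mathlib
import Cfsg.Agent.H606.PQR.Pieces_m3
import Cfsg.Agent.H934.HeisE6_m3
import Cfsg.Agent.H934.HeisTwE6
import Cfsg.Agent.S1054
import Cfsg.Agent.S2105
import Cfsg.Agent.S2108
import Cfsg.Agent.H120.SLHom
import Cfsg.Agent.H120.Level
import Cfsg.Agent.H120.Common
import Cfsg.Agent.H65.UnivE
import Cfsg.Agent.Characters.Values
import Cfsg.Agent.H898.TE6Facts
import Cfsg.Agent.S1070
import Cfsg.Agent.FastGrp
import Cfsg.Agent.Prune
set_option linter.all false

section
prune_inst 0x7ffcfefcabacb9dffffb7e3ff7d9cffdf1880fffe6dffd7bffe86bbf3bff63804dc5fbad6be090fe1f77e21410b87853f97ecf7feb6bdc7ffffd57b41ffbee1ff7ffb50951d68834066e6fff9bf1770e6f3ffffffffffffffffffff7ffffffbeffbfe3feffff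

-- part: H631/Fpf/HeisApp
section
prune_inst 0x200030041000000000000080410000404a00009000080000480004000080680100000000b0800400000288040038000810000000000000000000040001180080008002000040a108000006000880000000000000000000000000000000000004000000000
set_option linter.all false
open scoped Cfsg.Agent.FastGrp

-- part: H631/Fpf/HeisAbs
section
/-!
# Semi-extraspecial groups from commuting pairs (for S4228, helper631)

`HD X Z F opp` : subgroups `X a` (`a ∈ F`), `Z`, with `[X a, X b] = 1` for `b ≠ opp a`, `[X a, X (opp a)] ≤ Z`, `Z` central,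
and `[u, X (opp a)] = Z` for each `1 ≠ u ∈ X a`.  Then `E = (⨆ X a) ⊔ Z` satisfies `{[g, h]} ⊇ Z` for `g ∈ E \ Z`, and
`|E| = |Z| ∏ |X a|`.
-/

set_option autoImplicit false
set_option linter.unusedSectionVars false

namespace Cfsg.Agent.H631.Fpf

variable {S : Type*} [Group S] {ι : Type*} [DecidableEq ι]

/-- commuting pairs of subgroups -/
structure HD (X : ι → Subgroup S) (Z : Subgroup S) (F : Finset ι) (opp : ι → ι) : Prop where
  mem : ∀ a ∈ F, opp a ∈ F
  inv : ∀ a ∈ F, opp (opp a) = a
  ne : ∀ a ∈ F, opp a ≠ a
  comm : ∀ a ∈ F, ∀ b ∈ F, b ≠ opp a → ∀ u ∈ X a, ∀ v ∈ X b, u * v = v * u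
  le : ∀ a ∈ F, ∀ u ∈ X a, ∀ v ∈ X (opp a), u * v * u⁻¹ * v⁻¹ ∈ Z
  cen : ∀ a ∈ F, ∀ z ∈ Z, ∀ u ∈ X a, z * u = u * z
  ab : ∀ z ∈ Z, ∀ w ∈ Z, z * w = w * z
  surj : ∀ a ∈ F, ∀ u ∈ X a, u ≠ 1 → ∀ z ∈ Z, ∃ v ∈ X (opp a), u * v * u⁻¹ * v⁻¹ = z
  ne_bot : Z ≠ ⊥

/-- the group generated by the `X a`, `a ∈ F'`, and `Z` -/
def hE (X : ι → Subgroup S) (Z : Subgroup S) (F : Finset ι) : Subgroup S := (⨆ a ∈ F, X a) ⊔ Z

variable {X : ι → Subgroup S} {Z : Subgroup S} {F : Finset ι} {opp : ι → ι}

theorem le_hE {F' : Finset ι} {a : ι} (ha : a ∈ F') : X a ≤ hE X Z F' :=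
  (le_iSup₂ (f := fun a (_ : a ∈ F') => X a) a ha).trans le_sup_left

theorem hE_le {F' : Finset ι} {H : Subgroup S} (h : ∀ a ∈ F', X a ≤ H) (hZ : Z ≤ H) : hE X Z F' ≤ H :=
  sup_le (iSup₂_le h) hZ

theorem Z_le_hE {F' : Finset ι} : Z ≤ hE X Z F' := le_sup_right

theorem hE_mono {F' F'' : Finset ι} (h : F' ⊆ F'') : hE X Z F' ≤ hE X Z F'' :=
  hE_le (fun _ ha => le_hE (h ha)) Z_le_hE

theorem hE_empty : hE X Z (∅ : Finset ι) = Z := by
  unfold hE
  simp only [_root_.Finset.notMem_empty, _root_.not_false_eq_true, _root_.iSup_neg, _root_.iSup_bot, _root_.bot_le, _root_.sup_of_le_right]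

theorem hE_insert {F' : Finset ι} {a : ι} : hE X Z (insert a F') = X a ⊔ hE X Z F' := by
  apply le_antisymm
  · refine hE_le (fun b hb => ?_) (Z_le_hE.trans le_sup_right)
    rcases Finset.mem_insert.1 hb with rfl | hb
    · exact le_sup_left
    · exact (le_hE hb).trans le_sup_right
  · exact sup_le (le_hE (Finset.mem_insert_self _ _)) (hE_mono (Finset.subset_insert _ _))

namespace HD

variable (H : HD X Z F opp)

include H

/-- `Z` is central -/
theorem cent {F' : Finset ι} (hF : F' ⊆ F) : ∀ z ∈ Z, ∀ g ∈ hE X Z F', z * g = g * z := by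
  intro z hz g hg
  have h1 : hE X Z F' ≤ Subgroup.centralizer ({z} : Set S) := by
    refine hE_le (fun a ha u hu => ?_) (fun w hw => ?_)
    · rw [Subgroup.mem_centralizer_iff]
      rintro y rfl
      exact H.cen a (hF ha) y hz u hu
    · rw [Subgroup.mem_centralizer_iff]
      rintro y rfl
      exact H.ab y hz w hw
  exact (Subgroup.mem_centralizer_iff.1 (h1 hg)) z rfl

/-- `X a` commutes with the groups different from the opposite one -/
theorem comm_of_notMem {F' : Finset ι} (hF : F' ⊆ F) {a : ι} (ha : a ∈ F) (ha' : a ∉ F') :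
    ∀ g ∈ hE X Z F', ∀ v ∈ X (opp a), g * v = v * g := by
  intro g hg v hv
  have h1 : hE X Z F' ≤ Subgroup.centralizer ({v} : Set S) := by
    refine hE_le (fun b hb u hu => ?_) (fun w hw => ?_)
    · rw [Subgroup.mem_centralizer_iff]
      rintro y rfl
      refine H.comm (opp a) (H.mem a ha) b (hF hb) ?_ y hv u hu
      rw [H.inv a ha]
      rintro rfl
      exact ha' hb
    · rw [Subgroup.mem_centralizer_iff]
      rintro y rfl
      exact (H.cen _ (H.mem a ha) w hw y hv).symm
  exact ((Subgroup.mem_centralizer_iff.1 (h1 hg)) v rfl).symm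

/-- `X a` normalises the others -/
theorem le_normalizer {F' : Finset ι} (hF : F' ⊆ F) {a : ι} (ha : a ∈ F) :
    X a ≤ Subgroup.normalizer (hE X Z F' : Set S) := by
  have key : ∀ u ∈ X a, ∀ g ∈ hE X Z F', u * g * u⁻¹ ∈ hE X Z F' := by
    intro u hu g hg
    have h1 : hE X Z F' ≤ (hE X Z F').comap (MulAut.conj u).toMonoidHom := by
      refine hE_le (fun b hb v hv => ?_) (fun w hw => ?_)
      · show u * v * u⁻¹ ∈ hE X Z F'
        by_cases hab : b = opp a
        · subst hab
          have h2 := H.le a ha u hu v hv
          have h3 : u * v * u⁻¹ = (u * v * u⁻¹ * v⁻¹) * v := by group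
          rw [h3]
          exact mul_mem (Z_le_hE h2) (le_hE hb hv)
        · have h2 := H.comm a ha b (hF hb) hab u hu v hv
          rw [h2, mul_inv_cancel_right]
          exact le_hE hb hv
      · show u * w * u⁻¹ ∈ hE X Z F'
        rw [← H.cen a ha w hw u hu, mul_inv_cancel_right]
        exact Z_le_hE hw
    exact h1 hg
  intro u hu
  rw [Subgroup.mem_normalizer_iff]
  intro g
  refine ⟨key u hu g, fun h => ?_⟩
  have h1 := key u⁻¹ (inv_mem hu) _ h
  have h2 : u⁻¹ * (u * g * u⁻¹) * u⁻¹⁻¹ = g := by group
  rwa [h2] at h1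

theorem mem_insert_iff {F' : Finset ι} (hF : F' ⊆ F) {a : ι} (ha : a ∈ F) {g : S}
    (hg : g ∈ hE X Z (insert a F')) : ∃ u ∈ X a, ∃ g' ∈ hE X Z F', g = u * g' := by
  rw [hE_insert] at hg
  have h1 : g ∈ ((X a ⊔ hE X Z F' : Subgroup S) : Set S) := hg
  rw [Subgroup.coe_mul_of_left_le_normalizer_right _ _ (H.le_normalizer hF ha), Set.mem_mul] at h1
  obtain ⟨u, hu, g', hg', e⟩ := h1
  exact ⟨u, hu, g', hg', e.symm⟩

/-- `X a` meets the group of the others trivially -/
theorem disjoint {F' : Finset ι} (hF : F' ⊆ F) {a : ι} (ha : a ∈ F) (ha' : a ∉ F') :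
    X a ⊓ hE X Z F' = ⊥ := by
  rw [eq_bot_iff]
  rintro u ⟨hu, hu'⟩
  rw [Subgroup.mem_bot]
  by_contra hu1
  obtain ⟨z, hz, hz1⟩ : ∃ z ∈ Z, z ≠ 1 := by
    by_contra hcon
    push Not at hcon
    apply H.ne_bot
    rw [eq_bot_iff]
    intro z hz
    exact Subgroup.mem_bot.2 (hcon z hz)
  obtain ⟨v, hv, e⟩ := H.surj a ha u hu hu1 z hz
  have h1 := H.comm_of_notMem hF ha ha' u hu' v hv
  apply hz1
  rw [← e, h1]
  group

/-- **The order.** -/
theorem card [Finite S] : ∀ F' : Finset ι, F' ⊆ F →
    Nat.card (hE X Z F') = Nat.card Z * ∏ a ∈ F', Nat.card (X a) := by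
  intro F'
  induction F' using Finset.induction_on with
  | empty =>
    intro _
    rw [hE_empty, Finset.prod_empty, mul_one]
  | insert a F' ha ih =>
    intro hF
    have haF : a ∈ F := hF (Finset.mem_insert_self _ _)
    have hF' : F' ⊆ F := fun b hb => hF (Finset.mem_insert_of_mem hb)
    rw [Finset.prod_insert ha, hE_insert]
    have h1 : Disjoint (X a) (hE X Z F') := disjoint_iff.2 (H.disjoint hF' haF ha)
    have h2 : Nat.card ↥(X a ⊔ hE X Z F') = Nat.card (X a) * Nat.card (hE X Z F') := by
      have e : ↥(X a) × ↥(hE X Z F') ≃ ↥(X a ⊔ hE X Z F') := by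
        refine Equiv.ofBijective (fun p => ⟨(p.1 : S) * (p.2 : S), mul_mem ((le_sup_left : X a ≤ _) p.1.2)
          ((le_sup_right : hE X Z F' ≤ _) p.2.2)⟩) ⟨?_, ?_⟩
        · rintro ⟨u, g⟩ ⟨u', g'⟩ h
          have h3 : (u : S) * g = u' * g' := congrArg Subtype.val h
          have h4 : (u' : S)⁻¹ * u = g' * (g : S)⁻¹ := by
            rw [eq_mul_inv_iff_mul_eq, mul_assoc, h3, inv_mul_cancel_left]
          have h5 : (u' : S)⁻¹ * u ∈ X a ⊓ hE X Z F' :=
            ⟨(X a).mul_mem ((X a).inv_mem u'.2) u.2,
              by rw [h4]; exact (hE X Z F').mul_mem g'.2 ((hE X Z F').inv_mem g.2)⟩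
          rw [H.disjoint hF' haF ha, Subgroup.mem_bot] at h5
          have h6 : (u : S) = u' := by rw [inv_mul_eq_one] at h5; exact h5.symm
          have h7 : (g : S) = g' := by
            rw [h6] at h3
            exact mul_left_cancel h3
          exact Prod.ext (Subtype.ext h6) (Subtype.ext h7)
        · rintro ⟨g, hg⟩
          have h3 : g ∈ hE X Z (insert a F') := by rw [hE_insert]; exact hg
          obtain ⟨u, hu, g', hg', rfl⟩ := H.mem_insert_iff hF' haF h3
          exact ⟨(⟨u, hu⟩, ⟨g', hg'⟩), rfl⟩
      rw [← Nat.card_congr e, Nat.card_prod]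
    rw [h2, ih hF']
    ring

end HD

end Cfsg.Agent.H631.Fpf
end

-- part: H631/Fpf/Heis
section
/-!
# Degrees of covers from a semi-extraspecial subgroup (for S4228, helper631)

* `exists_section` : an `l`-subgroup `K` of `S` lifts to a cover whose kernel has order prime to `l`;
* `minDeg_heis` : `E` an `l`-subgroup, `Z ≤ E` central in `E`, `{[g, h] | h ∈ E} ⊇ Z` for each `g ∈ E \ Z`,
  `B ^ 2 * |Z| ≤ |E|` : then `MinDeg S B`.
-/

set_option autoImplicit false
set_option linter.style.haveILetI false

namespace Cfsg.Agent.H631.Fpf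

universe u v w

open Cfsg.Agent.H80.Fpf

/-- **Lifting `l`-subgroups.** -/
theorem exists_section {G : Type u} [Group G] [Finite G] {S : Type v} [Group S] {π : G →* S} (h : IsCover π)
    {l : ℕ} (hl : l.Prime) (hlk : ¬ l ∣ Nat.card π.ker) {K : Subgroup S} (hK : IsPGroup l K) :
    ∃ f : K →* G, ∀ k : K, π (f k) = k := by
  obtain ⟨L, hL, hL1, hL0, -⟩ := exists_lift_group h hl K hK
  let g : L →* K := (π.comp L.subtype).codRestrict K (fun x => hL0 x x.2)
  have hg : Function.Bijective g := by
    constructor
    · rw [injective_iff_map_eq_one]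
      intro z hz
      by_contra hz1
      have hzk : (z : G) ∈ π.ker := congrArg (fun k : K => (k : S)) hz
      have h1 : l ∣ orderOf z := by
        haveI : Fact l.Prime := ⟨hl⟩
        obtain ⟨a, ha⟩ := (IsPGroup.iff_orderOf).1 hL z
        rw [ha]
        apply dvd_pow_self
        rintro rfl
        rw [pow_zero, orderOf_eq_one_iff] at ha
        exact hz1 ha
      have h2 : orderOf z ∣ Nat.card π.ker := by
        have := orderOf_dvd_natCard (⟨z, hzk⟩ : π.ker)
        rwa [Subgroup.orderOf_mk, Subgroup.orderOf_coe] at this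
      exact hlk (h1.trans h2)
    · rintro ⟨k, hk⟩
      obtain ⟨y, hy, rfl⟩ := hL1 k hk
      exact ⟨⟨y, hy⟩, rfl⟩
  let e : L ≃* K := MulEquiv.ofBijective g hg
  refine ⟨L.subtype.comp e.symm.toMonoidHom, fun k => ?_⟩
  have h1 : g (e.symm k) = k := e.apply_symm_apply k
  exact congrArg (fun k : K => (k : S)) h1

/-- A nontrivial representation has an irreducible constituent on which a given element is
nontrivial. -/
theorem exists_irr_apply_ne_one {G : Type u} [Group G] [Finite G] {V : Type w} [AddCommGroup V] [Module ℂ V]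
    [FiniteDimensional ℂ V] (ρ : Representation ℂ G V) {g : G} (hne : ρ g ≠ 1) :
    ∃ (d : ℕ) (τ : Representation ℂ G (Fin d → ℂ)), τ.IsIrreducible ∧ d ≤ Module.finrank ℂ V ∧ τ g ≠ 1 := by
  classical
  obtain ⟨n, hn⟩ : ∃ n, Module.finrank ℂ V = n := ⟨_, rfl⟩
  induction n using Nat.strong_induction_on generalizing V with
  | _ n ih =>
  haveI : Nontrivial V := by
    by_contra h
    rw [not_nontrivial_iff_subsingleton] at h
    exact hne (LinearMap.ext fun v => Subsingleton.elim _ _)
  obtain ⟨σ, hσ⟩ := Cfsg.Agent.S1492.exists_irreducible_sub ρ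
  by_cases hs : σ.toRepresentation g ≠ 1
  · obtain ⟨d, τ, hτ, ⟨e⟩⟩ := Cfsg.Agent.S0184.exists_fin_model σ.toRepresentation hσ
    have hcomm : ∀ (g : G) (v : σ.toSubmodule), e (σ.toRepresentation g v) = τ g (e v) := fun g v =>
      Representation.IntertwiningMap.isIntertwining _ _ e.toIntertwiningMap g v
    refine ⟨d, τ, hτ, ?_, fun h => hs ?_⟩
    · have h1 : Module.finrank ℂ σ.toSubmodule = d := by
        rw [e.toLinearEquiv.finrank_eq]; simp only [_root_.Module.finrank_fintype_fun_eq_card, _root_.Fintype.card_fin]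
      rw [← h1]
      exact Submodule.finrank_le _
    · apply LinearMap.ext
      intro v
      apply e.toLinearEquiv.injective
      have h1 := hcomm g v
      rw [h] at h1
      exact h1
  · push Not at hs
    have hGF : (Nat.card G : ℂ) ≠ 0 := by exact_mod_cast Nat.card_pos.ne'
    haveI : NeZero (Nat.card G : ℂ) := ⟨hGF⟩
    obtain ⟨σ', hσ'⟩ := exists_isCompl σ
    have hσne : σ.toSubmodule ≠ ⊥ := by
      intro h
      obtain ⟨x, y, hxy⟩ := hσ.exists_pair_ne
      apply hxy
      apply Subrepresentation.toSubmodule_injective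
      haveI : Subsingleton σ.toSubmodule := by rw [h]; infer_instance
      exact Subsingleton.elim _ _
    have hσ'ne : σ'.toSubmodule ≠ ⊤ := by
      intro h
      have h1 : σ' = ⊤ := Subrepresentation.toSubmodule_injective h
      rw [h1] at hσ'
      apply hσne
      have h2 : σ = ⊥ := by simpa only [_root_.le_top, _root_.inf_of_le_left] using hσ'.inf_eq_bot
      rw [h2]; rfl
    have hlt : Module.finrank ℂ σ'.toSubmodule < n := by
      rw [← hn]; exact Submodule.finrank_lt hσ'ne
    obtain ⟨d, τ, hτ, hd, hg⟩ := ih _ hlt σ'.toRepresentation (by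
      intro hcon
      apply hne
      apply LinearMap.ext
      intro v
      have hv : v ∈ σ.toSubmodule ⊔ σ'.toSubmodule := by
        have h1 : σ ⊔ σ' = ⊤ := hσ'.sup_eq_top
        have h2 : (σ ⊔ σ').toSubmodule = ⊤ := by rw [h1]; rfl
        have h3 : (σ ⊔ σ').toSubmodule = σ.toSubmodule ⊔ σ'.toSubmodule := rfl
        rw [← h3, h2]; trivial
      obtain ⟨a, ha, b, hb, rfl⟩ := Submodule.mem_sup.1 hv
      rw [map_add, Module.End.one_apply]
      congr 1
      · exact congrArg Subtype.val (LinearMap.congr_fun hs ⟨a, ha⟩)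
      · exact congrArg Subtype.val (LinearMap.congr_fun hcon ⟨b, hb⟩)) rfl
    exact ⟨d, τ, hτ, hd.trans (by rw [hn]; exact hlt.le), hg⟩

/-- **The degree of a faithful irreducible representation of a semi-extraspecial group.** -/
theorem sq_le_of_heis {E : Type u} [Group E] [Finite E] {Z : Subgroup E} (hZc : ∀ z ∈ Z, ∀ g : E, z * g = g * z)
    (hH : ∀ g : E, g ∉ Z → ∀ z ∈ Z, ∃ h : E, g * h * g⁻¹ * h⁻¹ = z) {z : E} (hz : z ∈ Z) {d : ℕ}
    (τ : Representation ℂ E (Fin d → ℂ)) (hτ : τ.IsIrreducible) (hτz : τ z ≠ 1) :
    d ^ 2 * Nat.card Z = Nat.card E := by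
  classical
  haveI := Fintype.ofFinite E
  haveI := hτ
  have hscal : ∀ y ∈ Z, ∃ c : ℂ, τ y = c • (LinearMap.id : (Fin d → ℂ) →ₗ[ℂ] (Fin d → ℂ)) := by
    intro y hy
    apply Cfsg.Agent.Characters.CentralCharacter.exists_scalar_of_commute τ (τ y)
    intro g v
    rw [← Module.End.mul_apply, ← map_mul, hZc y hy g, map_mul, Module.End.mul_apply]
  have h0 : ∀ g : E, g ∉ Z → τ.character g = 0 := by
    intro g hg
    obtain ⟨h, hh⟩ := hH g hg z hz
    obtain ⟨c, hc⟩ := hscal z hz
    have hc1 : c ≠ 1 := by
      rintro rfl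
      apply hτz
      rw [hc, one_smul]; rfl
    have h1 : h * g * h⁻¹ = z⁻¹ * g := by
      rw [← hh]; group
    have h2 : g = z * (h * g * h⁻¹) := by rw [h1]; group
    have h3 : τ.character g = c * τ.character g := by
      conv_lhs => rw [h2]
      have h4 : τ (z * (h * g * h⁻¹)) = c • τ (h * g * h⁻¹) := by
        rw [map_mul, hc]
        apply LinearMap.ext
        intro v
        simp only [_root_.map_mul, _root_.Algebra.smul_mul_assoc, _root_.LinearMap.smul_apply, _root_.Module.End.mul_apply, _root_.LinearMap.id_coe, _root_.id_eq]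
      have h5 : τ.character (z * (h * g * h⁻¹)) = c * τ.character (h * g * h⁻¹) := by
        show LinearMap.trace ℂ _ (τ (z * (h * g * h⁻¹))) = c * LinearMap.trace ℂ _ (τ (h * g * h⁻¹))
        rw [h4, map_smul, smul_eq_mul]
      rw [h5, Representation.char_conj]
    have h6 : (1 - c) * τ.character g = 0 := by rw [sub_mul, one_mul, ← h3, sub_self]
    rcases mul_eq_zero.1 h6 with h7 | h7
    · exact absurd (sub_eq_zero.1 h7).symm hc1
    · exact h7
  have hZn : ∀ y ∈ Z, ‖τ.character y‖ ^ 2 = (d : ℝ) ^ 2 := by
    intro y hy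
    have h1 := norm_character_mul τ hτ (z := y) (Subgroup.mem_center_iff.2 fun g => (hZc y hy g).symm) 1
    rw [one_mul, Representation.char_one] at h1
    rw [h1]
    simp only [_root_.Module.finrank_fintype_fun_eq_card, _root_.Fintype.card_fin, _root_.RCLike.norm_natCast]
  have hsum := Cfsg.Agent.S0191.sum_norm_sq τ
  have h1 : ∑ g : E, ‖τ.character g‖ ^ 2 = ∑ g ∈ (Finset.univ : Finset E).filter (fun g => g ∈ Z), (d : ℝ) ^ 2 := by
    rw [Finset.sum_filter]
    apply Finset.sum_congr rfl
    intro g _
    by_cases hg : g ∈ Z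
    · rw [if_pos hg, hZn g hg]
    · rw [if_neg hg, h0 g hg]; simp
  rw [h1, Finset.sum_const, nsmul_eq_mul] at hsum
  have h2 : ((Finset.univ : Finset E).filter (fun g => g ∈ Z)).card = Nat.card Z := by
    rw [Nat.card_eq_fintype_card, ← Fintype.card_subtype]
  rw [h2] at hsum
  have h3 : ((d ^ 2 * Nat.card Z : ℕ) : ℝ) = ((Nat.card E : ℕ) : ℝ) := by
    push_cast
    rw [mul_comm]
    exact_mod_cast hsum
  exact_mod_cast h3

/-- **Degrees of covers from a semi-extraspecial subgroup.** -/
theorem minDeg_heis {S : Type v} [Group S] [Finite S] [IsSimpleGroup S] {l m : ℕ} (hl : l.Prime)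
    (hm : MultDvd S m) (hlm : ¬ l ∣ m) {E Z : Subgroup S} (hE : IsPGroup l E) (hZE : Z ≤ E) (hZ1 : Z ≠ ⊥)
    (hZc : ∀ z ∈ Z, ∀ g ∈ E, z * g = g * z)
    (hH : ∀ g ∈ E, g ∉ Z → ∀ z ∈ Z, ∃ h ∈ E, g * h * g⁻¹ * h⁻¹ = z) {B : ℕ}
    (hB : B ^ 2 * Nat.card Z ≤ Nat.card E) : MinDeg S B := by
  intro G _ _ π hπ d ρ hρ hd
  haveI := hρ
  have hlk : ¬ l ∣ Nat.card π.ker := fun h => hlm (h.trans (hm G π hπ))
  obtain ⟨f, hf⟩ := exists_section hπ hl hlk hE
  obtain ⟨z, hz, hz1⟩ : ∃ z ∈ Z, z ≠ 1 := by
    by_contra hcon
    push Not at hcon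
    apply hZ1
    rw [eq_bot_iff]
    intro z hz
    exact Subgroup.mem_bot.2 (hcon z hz)
  have hρne : ∃ g, ρ g ≠ 1 := by
    by_contra hcon
    push Not at hcon
    have h1 := degree_one_of_scalar ρ (fun g => ⟨1, by rw [hcon g, one_smul]; rfl⟩)
    omega
  let τ : Representation ℂ E (Fin d → ℂ) := ρ.comp f
  have hτ : τ ⟨z, hZE hz⟩ ≠ 1 := by
    intro h1
    have h2 : f ⟨z, hZE hz⟩ ∈ MonoidHom.ker ρ := (MonoidHom.mem_ker).2 h1
    have h3 := (MonoidHom.mem_ker).1 (ker_le_of_simple hπ ρ hρne h2)
    rw [hf] at h3
    exact hz1 h3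
  obtain ⟨e, σ, hσ, hed, hσz⟩ := exists_irr_apply_ne_one τ hτ
  rw [Module.finrank_fin_fun] at hed
  have hsq := sq_le_of_heis (E := E) (Z := Z.subgroupOf E) (fun y hy g => Subtype.ext (hZc y hy g g.2))
    (fun g hg y hy => by
      obtain ⟨h, hh, e⟩ := hH g g.2 (fun h => hg h) y hy
      exact ⟨⟨h, hh⟩, Subtype.ext e⟩) (z := ⟨z, hZE hz⟩) hz σ hσ hσz
  rw [Nat.card_congr (Subgroup.subgroupOfEquivOfLe hZE).toEquiv] at hsq
  rw [← hsq] at hB
  have hZ : 0 < Nat.card Z := Nat.card_pos
  have h1 := Nat.le_of_mul_le_mul_right hB hZ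
  exact (Nat.pow_le_pow_iff_left two_ne_zero).1 h1 |>.trans hed

end Cfsg.Agent.H631.Fpf
end

-- part: H631/Fpf/HeisApp
section
/-!
# Degrees of covers from the special groups of helper934 (for S4228, helper631)

* `minDeg_hyp` : a special `l`-subgroup `E` with centre `Z`, `B ^ 2 * |Z| ≤ |E|`;
* `minDeg_data` : coordinates `Data S V A K` of a special group in `S`;
* `minDeg_tw` : the twisted case.
In all of them only `l ∤ m`, `MultDvd S m` is needed.
-/

set_option autoImplicit false
set_option linter.style.haveILetI false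

namespace Cfsg.Agent.H631.Fpf

universe u v w

open Cfsg.Agent.H80.Fpf Cfsg.Agent.H934.Heis Cfsg.Agent.H934.HeisData Cfsg.Agent.H934.HeisTw
  Cfsg.Agent.H934.HeisRoot

section Data

variable {S : Type v} [Group S] [Finite S] [IsSimpleGroup S] {V A K : Type*} [AddCommGroup V] [AddCommGroup A]
  (D : Data S V A K)

include D in
/-- **Coordinates of a special group in the simple group.** -/
theorem minDeg_data [Nontrivial A] [Finite V] [Finite A] {l m : ℕ} (hl : l.Prime)
    (hm : MultDvd S m) (hlm : ¬ l ∣ m) {a b : ℕ} (ha : Nat.card V = l ^ a) (hb : Nat.card A = l ^ b) {B : ℕ}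
    (hB : B ^ 2 ≤ Nat.card V) : MinDeg S B := by
  haveI : Fact l.Prime := ⟨hl⟩
  have hc : Nat.card D.Qg = Nat.card V * Nat.card A := D.card_Qg
  have hE : IsPGroup l D.Qg := IsPGroup.of_card (n := a + b) (by rw [hc, ha, hb, pow_add])
  refine minDeg_heis hl hm hlm (E := D.Qg) (Z := D.Zg) hE D.Zg_le_Qg ?_ ?_ ?_ ?_
  · intro h
    have h1 := D.card_Zg
    rw [h, Subgroup.card_bot] at h1
    have h2 := Finite.one_lt_card (α := A)
    omega
  · rintro _ ⟨c, rfl⟩ g hg
    exact (D.central (D.Qg_le hg) c).symm
  · rintro _ ⟨v, c, rfl⟩ hn _ ⟨d, rfl⟩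
    have hv : v ≠ 0 := by
      rintro rfl
      apply hn
      obtain ⟨e, he⟩ := D.exists_X_zero
      exact ⟨e + c, by rw [D.z_add, ← he]⟩
    obtain ⟨w, hw⟩ := D.special v hv d
    refine ⟨D.X w, D.X_mem_Qg w, ?_⟩
    have h1 := D.comm_eq v w c 0
    rw [D.z_zero, mul_one, hw] at h1
    exact h1
  · rw [hc, D.card_Zg]
    exact Nat.mul_le_mul_right _ hB

end Data

section Tw

variable {Γ V A K : Type*} [Group Γ] [Finite Γ] [AddCommGroup V] [AddCommGroup A] {D : Data Γ V A K} {σ : Γ →* Γ}
  {G : Subgroup Γ} {φ : A → A} {sV : V → V}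

/-- **The twisted case.** -/
theorem minDeg_tw [Nontrivial A] [Finite V] [Finite A] (T : TwData D σ G φ sV) [IsSimpleGroup G] {l m : ℕ}
    (hl : l.Prime) (hm : MultDvd G m) (hlm : ¬ l ∣ m) {a b : ℕ} (ha : Nat.card V = l ^ a) (hb : Nat.card A = l ^ b)
    {a0 : A} (h0 : φ a0 = a0) (ha0 : a0 ≠ 0) {B : ℕ} (hB : B ^ 2 ≤ Nat.card {v : V // sV v = v}) : MinDeg G B := by
  haveI : Fact l.Prime := ⟨hl⟩
  have hc : Nat.card D.Qg = Nat.card V * Nat.card A := D.card_Qg
  have hE : IsPGroup l D.Qg := IsPGroup.of_card (n := a + b) (by rw [hc, ha, hb, pow_add])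
  have hcA : Nat.card (D.Zg.subgroupOf G) ≤ Nat.card {a : A // φ a = a} := by
    have h1 : ∀ g : D.Zg.subgroupOf G, ∃ a : {a : A // φ a = a}, D.z a = ((g : G) : Γ) := by
      intro g
      obtain ⟨a, ha⟩ := g.2
      have ha' : D.z a = ((g : G) : Γ) := ha
      exact ⟨⟨a, T.fix_z (by rw [ha']; exact (g : G).2)⟩, ha'⟩
    choose f hf using h1
    refine Nat.card_le_card_of_injective f ?_
    intro g h e
    apply Subtype.ext
    apply Subtype.ext
    rw [← hf g, ← hf h, e]
  have hEq : (D.Qg ⊓ G) = TwData.Q0 D G := inf_comm _ _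
  have hcQ : Nat.card (D.Qg.subgroupOf G) = Nat.card (TwData.Q0 D G) := by
    have h1 : Nat.card ((D.Qg ⊓ G).subgroupOf G) = Nat.card ↥(D.Qg ⊓ G) :=
      Nat.card_congr (Subgroup.subgroupOfEquivOfLe inf_le_right).toEquiv
    rw [Subgroup.inf_subgroupOf_right] at h1
    rw [h1, hEq]
  refine minDeg_heis hl hm hlm (E := D.Qg.subgroupOf G) (Z := D.Zg.subgroupOf G) ?_ ?_ ?_ ?_ ?_ ?_
  · exact hE.comap_of_injective G.subtype Subtype.val_injective
  · intro g hg
    exact D.Zg_le_Qg hg
  · intro h
    have h1 : (⟨D.z a0, T.z_mem a0 h0⟩ : G) ∈ D.Zg.subgroupOf G := ⟨a0, rfl⟩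
    rw [h, Subgroup.mem_bot] at h1
    exact ha0 (D.z_inj _ (congrArg Subtype.val h1))
  · rintro z ⟨c, hc'⟩ g hg
    apply Subtype.ext
    have hc'' : D.z c = (z : Γ) := hc'
    show (z : Γ) * (g : Γ) = (g : Γ) * (z : Γ)
    rw [← hc'']
    exact (D.central (D.Qg_le hg) c).symm
  · intro g hg hgZ z hz
    have h1 := T.hyp.special ⟨g, g.2, hg⟩ trivial (fun h => hgZ h) ⟨z, z.2, D.Zg_le_Qg hz⟩ hz
    obtain ⟨y, -, hy⟩ := h1
    refine ⟨⟨(y : Γ), y.2.1⟩, y.2.2, ?_⟩
    apply Subtype.ext
    exact congrArg (fun t : TwData.Q0 D G => (t : Γ)) hy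
  · rw [hcQ]
    have h1 := T.card_Q
    rw [Subgroup.card_top] at h1
    exact (Nat.mul_le_mul hB hcA).trans h1

end Tw

section Final

variable {Γ F ι κ : Type*} [Group Γ] [Finite Γ] [Field F] [Fintype F] [Fintype ι] [DecidableEq ι] (R : RH Γ F ι κ)

/-- **Root elements over a finite field.** -/
theorem minDeg_final (σ : Γ →* Γ) (G : Subgroup Γ) (φ : F →+* F) (ρ : Equiv.Perm ι) (ε : ι → F) {q n : ℕ}
    (hq : 1 < q) (hn : 1 < n) (hφ : ∀ x, φ x = x ^ q) (hF : Fintype.card F = q ^ n)
    (sig_x : ∀ i t, σ (R.x i t) = R.x (ρ i) (ε i * φ t)) (sig_z : ∀ t, σ (R.z t) = R.z (φ t))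
    (fix : ∀ g ∈ G, σ g = g) (z_mem : ∀ a, φ a = a → R.z a ∈ G)
    (hVn : ∀ v, (sV φ ρ ε)^[n] v = v)
    (lift0 : ∀ i t, ∃ a, R.X (tr (sV φ ρ ε) n (Pi.single i t)) * R.z a ∈ G)
    [IsSimpleGroup G] {l m : ℕ} (hl : l.Prime) (hm : MultDvd G m) (hlm : ¬ l ∣ m) {e : ℕ} (hle : q = l ^ e)
    {B : ℕ} (hB : B ^ 2 ≤ q ^ Fintype.card ι) : MinDeg G B := by
  obtain ⟨b, hb⟩ := exists_distinct hq hn hφ hF
  obtain ⟨b0, hb0⟩ := exists_tr_one (by omega) hb (iterate_frob_n hφ hF)
  have T := of_trace R σ G φ ρ ε n sig_x sig_z fix z_mem hVn hb0 lift0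
  have hc2 : q ^ Fintype.card ι ≤ Nat.card {v : ι → F // sV φ ρ ε v = v} := by
    have h3 := card_le_pow (M := ι → F) (by omega) hb (s := sV φ ρ ε) (sV_smul φ ρ ε) hVn
    rw [Nat.card_fun, Nat.card_eq_fintype_card (α := F), Nat.card_eq_fintype_card (α := ι), hF, ← pow_mul, mul_comm,
      pow_mul] at h3
    exact le_of_pow_le_pow_left₀ (by omega) (by omega) h3
  refine minDeg_tw T hl hm hlm (a := e * n * Fintype.card ι) (b := e * n) ?_ ?_ (map_one φ) one_ne_zero
    (hB.trans hc2)
  · rw [Nat.card_fun, Nat.card_eq_fintype_card (α := F), Nat.card_eq_fintype_card (α := ι), hF, hle]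
    ring
  · rw [Nat.card_eq_fintype_card (α := F), hF, hle]
    ring

end Final

end Cfsg.Agent.H631.Fpf
end
end

-- part: H631/Fpf/DegE6
section
set_option linter.all false
open scoped Cfsg.Agent.FastGrp

/-!
# The degrees of the covers of `E₆(q)` and `²E₆(q)` (for S4228, helper631)
-/

set_option autoImplicit false
set_option linter.style.haveILetI false

namespace Cfsg.Agent.H631.Fpf

universe u v w

open Cfsg.Agent.H80.Fpf Cfsg.Lie Cfsg.Agent.H934.HeisTw Cfsg.Agent.H934.HeisTwE6 Cfsg.Agent.ChevalleyStructure Cfsg.Agent.ChevalleyStructure.TwE6Basic Cfsg.Agent.ChevalleyStructure.TwE6BN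

theorem not_dvd_gcd_three {l q n : ℕ} (hl : l.Prime) (hlq : l ∣ q) (hn : n = q + 1 ∨ (n = q - 1 ∧ 1 ≤ q)) :
    ¬ l ∣ Nat.gcd 3 n := by
  intro h
  have h1 : l ∣ n := h.trans (Nat.gcd_dvd_right _ _)
  have h2 : l ∣ 1 := by
    rcases hn with rfl | ⟨rfl, h3⟩
    · exact (Nat.dvd_add_right hlq).1 h1
    · have := Nat.dvd_sub hlq h1
      rwa [show q - (q - 1) = 1 by omega] at this
  exact hl.one_lt.ne' (Nat.dvd_one.1 h2)

/-- **`E₆(q)`**: degrees at least `q ^ 10`. -/
theorem minDeg_E6 {F : Type} [Field F] [Fintype F] : MinDeg ↥(chevE6.group F) (Fintype.card F ^ 10) := by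
  classical
  haveI : IsSimpleGroup ↥(chevE6.group F) := (Cfsg.Agent.S1054.result chevE6 (by simp)).1
  haveI : Finite (GL chevE6.Idx F) := inferInstance
  obtain ⟨l, hl⟩ := CharP.exists F
  haveI : Fact l.Prime := ⟨CharP.char_is_prime F l⟩
  obtain ⟨n, -, hn⟩ := FiniteField.card F l
  have hq0 : 0 < Fintype.card F := Fintype.card_pos
  refine minDeg_data (Cfsg.Agent.H934.HeisE6.tab.rh Cfsg.Agent.H934.HeisE6.hD Cfsg.Agent.H934.HeisE6.tab_ok F).toData
    (l := l) (a := n * 20) (b := n) Fact.out (multDvd_of_cyclic ?_ (Cfsg.Agent.S2105.result (F := F) rfl))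
    (not_dvd_gcd_three Fact.out ?_ (Or.inr ⟨rfl, hq0⟩)) ?_ ?_ ?_
  · exact Nat.gcd_ne_zero_left (by norm_num)
  · rw [hn]; exact dvd_pow_self _ n.ne_zero
  · rw [Nat.card_fun, Nat.card_eq_fintype_card (α := F), Nat.card_eq_fintype_card (α := Fin 20), Fintype.card_fin, hn,
      pow_mul]
  · rw [Nat.card_eq_fintype_card (α := F), hn]
  · rw [Nat.card_fun, Nat.card_eq_fintype_card (α := F), Nat.card_eq_fintype_card (α := Fin 20), Fintype.card_fin,
      ← pow_mul]

/-- **`²E₆(q)`, `q > 2`**: degrees at least `q ^ 10`. -/
theorem minDeg_2E6 {K : Type} [Field K] [Fintype K] {q : ℕ} (hq : IsPrimePow q) (hK : Fintype.card K = q ^ 2)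
    (hs : IsSimpleGroup ↥(twistedE6 K q)) (h2 : q ≠ 2) : MinDeg ↥(twistedE6 K q) (q ^ 10) := by
  classical
  obtain ⟨φ, hφ, hqq⟩ := exists_frob hq hK
  haveI := hs
  have : Finite (GL chevE6.Idx K) := inferInstance
  obtain ⟨l, e, hl, he, hle⟩ := id hq
  refine minDeg_final (R K) (sg φ) (twistedE6 K q) φ rhoI (fun i => (eps i : K)) hq.one_lt (n := 2) (by norm_num) hφ hK
    (sig_R φ) (sig_z φ) (fun g hg => twisted_le_fix φ hφ hqq hg) (z_mem hφ hqq)
    (sV_two fun t => by rw [hφ, hφ, hqq])
    (fun i t => lift_two (R K) (lift hφ hqq i t)) hl.nat_prime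
    (multDvd_of_cyclic ?_ (Cfsg.Agent.S2108.result hq hK h2)) (not_dvd_gcd_three hl.nat_prime ?_ (Or.inl rfl))
    hle.symm ?_
  · exact Nat.gcd_ne_zero_left (by norm_num)
  · rw [← hle]; exact dvd_pow_self _ he.ne'
  · rw [Fintype.card_fin, ← pow_mul]

end Cfsg.Agent.H631.Fpf
end

-- part: H111/Fpf/SevenMin
section
prune_inst 0x80000000000001c010000
set_option linter.all false
open scoped Cfsg.Agent.FastGrp

-- part: H111/Fpf/SevenTab
section
/-!
# The level E₇ > E₆ in the root system of type E₇
-/

set_option autoImplicit false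

namespace Cfsg.Agent.H111.Fpf.SevenTab

open Cfsg.Lie Cfsg.Agent.H120.Gram Cfsg.Agent.H120.GramTab Cfsg.Agent.H120.LevTab

/-- the Gram matrix of the roots of type E7 -/
def gtE7 : ℕ := 0x43333333333333333333333333333333322222222222222222222222222222222222222222222222222222222222211111111111111111111111111111111034333333333333333222222222222222133333333332222233333222222222222222222221111122222111111111132222222222222221111111111111110133433333333222222333333222222221233333322223333222221333322222222222211113222221111222211111123222222221111112222221111111101133343333222333222333222333222212233322233323332322212222133322222211132222322212111211122211122322221112221112221112221111011133334332322322332322332332322122232233233233323322122221222133221132223222232211211121121122122232212112112212112212212110111133333432232232323232323323321222223232332333233321222212221221313223222322223211121112112121222223211211212121212122122101111133333342223223233223233233312222222323323332333312222122212212132322322232222311112111211212222222311121121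221121221222011111133332224333333222333222222133322233322222212221133322333233322222211121112211133222322222211122211132222221112221111110222111133323223433322332322332221233232232233222122212133232332322133221132212112121132322232221122122121123222112212112211101221211133322323343232323232323212232332223232321222122132332323321221313223211212112132232223212121222112122321212121212121011212211133322233334223233223233122223332222323312221222123332233312212132322311122111232223222311212222111222231121221121220111122211133233223322433332322221332233223232222133222211233223221133233221121133221221123322221132222121221122113222212111102211221121133232323232343323232212323232323223221232322121232323212132321313212132321212123232212123221221212121212322121211012121212121133232233223334233223122233223323222312223321221223323122123312132311232231211223223211222312221211221122231221120111221122121133223322332332433221322322332233222132232232112232233211221132312133223321122122332122122132221122112212213221102112112211221133223232323323343212232232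323233221223223231212223233121212123131232323231121222323121221223221121212122122321011211212121221133222332233233334122223223322333212222322331122222333112211211223323322331112222233112212222321112211221222230111121122112221132333223322322221433332332233222332222122113322222111332233233221121122113332222211332232222112221122112111103222212211221112132332323232232212343323323232322323221221213232221211323232321313212121213323222121323223221212212121211211012322122121212112132332233223223122334233233223322322312212212332212211233223312132311221123322322112322322312212211221121120112231221221122112132323322332221322332433322332232322132221123223221121322321132312133212213233221221233222132212122112211102112213222112211212132323232323212232323343232323232321223212122323212121232312123131232312123232321212232321223212121212121011212122321212121212132322332233122223233334223322332312222311222233211221223311211223323311223223321122223312222312112211220111121222231122112212132233322221332322332322433332223322121132223222321112211132232312122133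322333212221222133232211222111102212112212113222211122132233232212323232323232343323223321212123222322312112121123223131221233232332312212221232323211221211012121212121212322121122132232332122233223233223334322323312211222322232311212112122311223312232332323312122212223322311212210111221121221122232112122132223331222222333222333333422233311122222232223311122111211122222233323332233311222122222233311122201111112221112222223111222132222213332332322332322322243333322121121112111132222322232232312122122212222133332333233232211111022212212112212112111322222132222123323323232323232232234333321212112111211123222232223223131221222122221233323332332323211110122122121212121211211232222132221223233233223233223223233433312211211211121122322223222311223312221222212233233323323322311101121221221121221121121223222132212222333222333222333222333343311122211121112122232222311122222233312222122232333233322233311011112221112221112221112222322132122222222333333222222333333334311111122221111222223111122222222222233331222223333222233333310111111112222221111112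222222232131222222222222222333333333333333411111111112222211111222222222222222222223333322222333333333301111111111111112222222222222223123333223322322221322221221122111143333233223322233222332233233221121122112221122211221121111033332233223222213222212211221111223332323232232212232212212121211134332332323232232322323232321313212121212212122121212112110133323232322322122322122121212111223332233223223122223122122112211133423323322332223322233223312132311221122211222112211211201133322332232231222231221221122111223323322332221322221322211221121133243332233223232232322321132312133212212122121221122111021133233223322213222213222112211211223323232323212232212232121212121132334323232323223232232312123131232312122121221212121210112133232323232122322122321212121211223322332233122223122223112211221123333422332233222332223311211223323311222112221122112201111233223322331222231222231122112211223233322221332322221211322221112133232243333222332223211132232312122133321222112221111022121132333222213323222212113222211121223233232212323232212121232212112132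323234332322323223121123223131221233231221212212110121212132332322123232322121212322121121223232332122233223122112223211212123322333432232322323112122311223312232331212212122101112211232323321222332231221122232112121223223331222222333111222222311122122233333342223322233111211122222233323331122211222011111122232233312222223331112222223111221222333322221221211332322322221111233232232224333321111322232232312122122213333211110222122121123333222212212113323223222211112222333232212212121323232232212111232323223223433312111232223223131221222123332311101221221212123332322122121213232322322121112222332332122122112233223223211211223322322323343311211223222311223312221223323311011212212211223323321221221122332232232112112222323331222111222222333222311121222233322233334311121222311122222233312223233310111122211122223233312221112222223332223111212222233331111222222222222333311112222222233333333411112111122222222222233332333301111111122222222333311112222222222223333111122223222213332332322221211211132222133232232222111143333322232232312122122211111033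332222122121132222133323323222212112111322221223222123323323232212121121123222132323223221211134333232223223131221222121110133323221221212132221233233232322121211211232221223221223233233223122112112122322123322322321121133433223222311223312221221101133233212212211232212232332332231221121121223221223212222333222333111222111222232122233322231112133343222311122222233312221011132333122211122232122223332223331112221112222321223122222222333333111111222222223122222233331111233334111122222222222233330111123333111122222231222222223333331111112222222231222322213332221211332322211132221233232221113222132221433332232312122111103222132221333222121123222133322212113323222111322212222322123323212121323232121123221232323212112322123221343323223131221211013221232212332321212123221233232121213232321211232212222321223233122112233223112122321223322311212232122321334322311223312210113212232122323312211223212232331221122332231121223212222312222333111222222333111222231222233311122223122231333411122222233301113122231222233311122223122223331112222223331112222312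222232213221332211332211322132212233221132213221232212322143332312111032212322123221322133221122322132213322113322113221322122222232123212323121323121232123212232312123212321223212232134323131210132122321223212321232312122321232123231213231212321232122222231223122233112233112223122312223311222312231222312223133411223301131222312223122312223311222312231222331122331122231223122222223212321321321321321321232122232132132123212232122321232143311032123212232122321232132132122232123213213213213213212321222222223122312312231312231231223122231223123122312223122231223134130131223122231222312231231223122231223123122313122312312231222222222312231231312231312312231222223131231223122231222312231231403123122312223122231223123131222223122312313122313123122312222222222132213213132213132132213222221313213221322213222132213213041321322132221322213221321313222221322132131322131321322132222222221322132132213132213213221322213221321322132221322213221310314313221322213222132213213221322213221321322131322132132213222222221232123123123123123123212322212312312321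232212322123212301133412321232212322123212312312322212321231231231231231232123222222213221322211332211332221322132221133222132213222132221311033221143313222132221322132221133222132213222113322113322213221322222212321232121323121323212321232212132321232123221232212310121313234312322123221232123212132322123212321213231213232123212322222212231223112233112233122312232211223312231223212232122301112132333412232122321223122311223322122312231122331122331223122322222132222111333222222111333222213222211133322221322213111033322222211143331322213222211133322221322221113332222221113332222132222123221211322332211221332322123221122133232212322123110122133221132234331232212322121132233221232212113223322112213323221232222122321121232323121212323321223212121232332122321223101121221313223233431223212232112123232321223211212323231212123233212232222122231112223233112122233312223211212223331222312223011112212132322333341222312223111222323321222311122232331121222333122232221322222222111111333333222222221322222211113333211110333322222222222211114333321111333322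222213222222221111113333332222222213221232222111222111333222333222212322211122213332311101222133322222211132223433312111322233322212322221112221113332223332222123221223221211211221322332332322122321122122123323311011221222133221132223223343311211232232233212232212112112213223323323221223221222321121121212232323323321222312121221223233310111212221221313223222323334311121223223232312223211211212122323233233212223221222231112112122223233233312222311212212222333301111122212212132322322233333411112222322323312222311121121222232332333122223222211113333222222222222111133332222222211111111033332333322222222222211112111143333333322222222111133332222222222221111333322222121113222333222222111222133323222211122211110133323222133322222211132221211134333322233322221211132223332222221112221333232222112112322322332211221221233233221122122121101133233221222133221132223221121133433232232233221121123223223322112212212332332222111212232232323121212212232333212121221221011132333212221221313223222321112133343223223232321112122322323231212122122323332222111122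223223233112122122223333211212212220111123333122212212132322322231111233334222322323321111222232232331121221222233332221221113222222111333222222133322322211111102221122211333233322222211121113322233222433333322212211132222221113332222221333223221212112322211221322332221233232321122111012212122121332322133221132212113232232322343332233212121123222112213223322212332323221211212232121212232323212232332312121210112122121221323321221313223211213223232232334323232312112122321212122323232122323323221211122223112122223233122223332311212201111222112221233312212132322311123222332223333422323312111222231121222232331222233323221122112211322221322221332233223321111022112211222112221133233221121133222332223322332243333211221122113222213222213322332233221121212121232212232212323232323312110121212121221212212132321313212132322323223232323234332311212121212322122322123232323233221121122112223122223122233223323311201112211221212212122123312132311232232322323223322333423311211221122231222231222332233233221112211221221322221322322332233311021121122112221122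211221132312133223322233222332233233243311122112212213222213223223322333221112121212212232212232232323233310112112121212212122121212123131232323232232322323232332334311121212122122322122322323232333221111221122122223122223223322333301111211221122211222112211211223323322332223322233223323333411112211221222231222232233223333213222222222222222111111111111111033333333332222233333222222222222222222221111122222111111111143333333333333332222222222222221312322222222111111222222111111110133333322223333222221333322222222222211113222221111222211111134333333332222223333332222222212312232222111222111222111222111101133322233323332322212222133322222211132222322212111211122211133433332223332223332223332222122312223221211211221211221221211011132233233233323322122221222133221132223222232211211121121122133343323223223323223323323221222312222321121121212121212212210111123232332333233321222212221221313223222322223211121112112121233334322322323232323233233212222312222231112112122112122122201111122323323332333312222122212212132322322232222311112111211212233333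422232232332232332333122222312221113222222111222111111022211133322222212221133322333233322222211121112211133222322222211133322243333332223332222221333222312212112322211221211221110122121132233222122212133232332322133221132212112121132322232221122133232234333223323223322212332322312211212232121212121212101121221123232321222122132332323321221313223211212112132232223212121233223233432323232323232122323322312211122223112122112122011112221122323312221222123332233312212132322311122111232223222311212233222333342232332232331222233322312122112211322221211110221122112132222133222211233223221133233221121133221221123322221132222132332233224333323222213322332232312121212121232212121101212121212123221232322121232323212132321313212132321212123232212123221232323232323433232322123232323232312121122112223122112011122112212122312223321221223323122123312132311232231211223223211222312232322332233342332231222332233232312112211221221322110211211221122122132232232112232233211221132312133223321122122332122122132232233223323324332213223223322332312112121212212232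101121121212122121223223231212223233121212123131232323231121222323121221223232232323233233432122322323232332312111221122122223011112112211222112222322331122222333112211211223323322331112222233112212222332223322332333341222232233223332311222112211211110322221221122111232222122113322222111332233233221121122113332222211332232222123332233223222214333323322332223311221212121121101232212212121211223221221213232221211323232321313212121213323222121323223221223323232322322123433233232323223311221122112112011223122122112211222312212212332212211233223312132311221123322322112322322312223322332232231223342332332233223311212211221110211221322211221121222132221123223221121322321132312133212213233221221233222132223233223322213223324333223322323311212121212101121212232121212121221223212122323212121232312123131232312123232321212232321223223232323232122323233432323232323311211221122011112122223112211221212222311222233211221223311211223323311223223321122223312222323223322331222232333342233223323311122211110221211221211322221112222121132223222321112211132232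3121221333223332122212221332322223332222133232233232243333222333111221211012121212121212322121122212121232223223121121211232231312212332323323122122212323232223323221232323232323234332322333111212210111221121221122232112122122112223222323112121121223112233122323323233121222122233223223233212223322323322333432232333111122201111112221112222223111222111222222322233111221112111222222333233322333112221222222333222333122222233322233333342223333111111022212212112212112111322222221211211121111322223222322323121221222122221333323332332322222221333233232233232232224333333111110122122121212121211211232222212121121112111232222322232231312212221222212333233323323232222212332332323232323223223433333111101121221221121221121121223222122112112111211223222232223112233122212222122332333233233223222122323323322323322322323343333111011112221112221112221112222322111222111211121222322223111222222333122221222323332333222333221222233322233322233322233334333110111111112222221111112222222232111111222211112222231111222222222222333312222233332222333333212222222233333322222233333333433101111111111111112222222222222223111111111122222111112222222222222222222233333222223333333333122222222222222233333333333333343011111111111111111111111111111111222222222222222222222222222222222222222222222222222222222222333333333333333333333333333333334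

theorem chkE7 : chkGram chevE7 gtE7 = true := by decide +kernel

/-- level E77 -/
theorem levE77 : Lev chevE7 gtE7 [] 6 16 125 [16, 15, 14, 13, 12, 12, 11, 10, 9, 8, 11, 10, 9, 8, 7, 8, 7, 6, 6, 5, 4, 5, 4, 3, 2, 1, 0] where
  grad := by decide +kernel
  kill0 := by decide +kernel
  kill1 := by decide +kernel
  lev := by decide +kernel
  top := by decide +kernel
  r0 := by decide +kernel
  card := by decide +kernel
  conn := by decide +kernel
  jcs := by decide +kernel

end Cfsg.Agent.H111.Fpf.SevenTab
end

-- part: H111/Fpf/SevenMin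
section
/-!
# The degrees of the covers of `E₇(q)` are at least `q ^ 16`
-/

set_option autoImplicit false
set_option linter.unusedSectionVars false

namespace Cfsg.Agent.H111.Fpf.SevenMin

open Module Cfsg.Lie Cfsg.Agent.H120 Cfsg.Agent.H120.Gram Cfsg.Agent.H120.GramTab Cfsg.Agent.H120.LevTab
  Cfsg.Agent.H120.LevMath Cfsg.Agent.H120.Common Cfsg.Agent.KFacts.En.Roots Cfsg.Agent.KFacts.Mult.Calc
  Cfsg.Agent.ChevalleyStructure.RootVec Cfsg.Agent.ChevalleyStructure.RootVecTab
  Cfsg.Agent.ChevalleyStructure.CoxeterGeom Cfsg.Agent.ChevalleyStructure.CoxeterGeomTypes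
  Cfsg.Agent.ChevalleyStructure.Elts Cfsg.Agent.Nodes.RGDChev Cfsg.Agent.H65.UnivE
  Cfsg.Agent.H111.Fpf.SevenTab Cfsg.Agent.Tits.Roots Cfsg.Agent.H80.Fpf Cfsg.Agent.OddHalf.SL.Index
  Cfsg.Agent.H65.Univ
open scoped commutatorElement

universe u v

theorem level77 : Level (bf chevE7 7) (PhiZ chevE7 7 []) (fun x => x ⟨6, by decide⟩) (fun x => x ⟨0, by decide⟩)
    (ford 7) (vec chevE7 7 (chevE7.simple 0)) 16
    [16, 15, 14, 13, 12, 12, 11, 10, 9, 8, 11, 10, 9, 8, 7, 8, 7, 6, 6, 5, 4, 5, 4, 3, 2, 1, 0] :=
  level ty_E7 chkE7 (by simp) (by decide) levE77 (by decide)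

variable {K : Type u} [Field K] {X : Type v} [Group X] {π : X →* ↥(chevE7.group K)}
  {T : (Fin 7 → ℤ) → K → X} {V : Type*} [AddCommGroup V] [Module ℂ V]

theorem sysX (H : Lifted typE7.hp CoxeterMatrix.E₇.toCoxeterSystem π T) (ρ : Representation ℂ X V) :
    Sys (bf chevE7 7) (PhiZ chevE7 7 []) (fun v (a : K) => ρ (T v a)) := by
  have S := H.sys
  have hmem : ∀ r, r ∈ PhiZ chevE7 7 [] → r ∈ {x | IsRoot CoxeterMatrix.E₇.toCoxeterSystem typE7.hp.isCartan x} := by
    intro r hr
    rw [PhiZ_nil] at hr
    exact (Cfsg.Agent.Nodes.RGDChev.isRoot_iff typE7.hp _ r).2 hr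
  have hB : ∀ r s, bf chevE7 7 r s = Bf (cartanOf chevE7 7) r s := by
    intro r s
    exact S.roots.symm s r
  refine ⟨?_, ?_, ?_, ?_⟩
  · intro r hr
    show ρ (T r 0) = 1
    rw [S.zero (hmem r hr), map_one]
  · intro r hr a b
    show ρ (T r (a + b)) = ρ (T r a) * ρ (T r b)
    rw [S.add r (hmem r hr), map_mul]
  · intro r hr s hs h a b
    show ρ (T r a) * ρ (T s b) = ρ (T s b) * ρ (T r a)
    rw [← map_mul, ← map_mul, (S.one r (hmem r hr) s (hmem s hs) (by rw [← hB]; exact h) a b).eq]
  · intro r hr s hs h
    have h1 := hB r s ▸ h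
    refine ⟨_, S.ne r (hmem r hr) s (hmem s hs) h1, fun a b => ?_⟩
    show ρ (T r a) * ρ (T s b) = ρ (T (r + s) _) * ρ (T s b) * ρ (T r a)
    rw [← map_mul, ← map_mul, ← map_mul, mul_assoc _ a b, ← S.comm r (hmem r hr) s (hmem s hs) h1,
      commutatorElement_def]
    congr 1
    group

/-- a perfect group with a normal subgroup covering a central quotient -/
theorem eq_one_of_map_top {G : Type u} [Group G] {S : Type v} [Group S] {π : G →* S} (hπ : IsCover π)
    (R : Subgroup G) [R.Normal] (h : R.map π = ⊤) : R = ⊤ := by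
  have hdec : ∀ x : G, ∃ a ∈ R, ∃ z ∈ Subgroup.center G, x = a * z := by
    intro x
    have h2 : π x ∈ R.map π := by rw [h]; trivial
    obtain ⟨a, ha, hax⟩ := h2
    refine ⟨a, ha, a⁻¹ * x, hπ.central ?_, by group⟩
    rw [MonoidHom.mem_ker, map_mul, map_inv, hax, inv_mul_cancel]
  rw [eq_top_iff, ← hπ.perf, commutator_def, Subgroup.commutator_le]
  intro x _ y _
  obtain ⟨a, ha, z, hz, rfl⟩ := hdec x
  obtain ⟨b, hb, w, hw, rfl⟩ := hdec y
  have hz' := Subgroup.mem_center_iff.1 hz
  have hw' := Subgroup.mem_center_iff.1 hw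
  have h3 : ⁅a * z, b * w⁆ = a * b * a⁻¹ * b⁻¹ := by
    rw [commutatorElement_def, mul_inv_rev, mul_inv_rev]
    have e1 : a * z * (b * w) = a * b * w * z := by
      rw [mul_assoc a z (b * w), ← hz' (b * w)]
      group
    calc a * z * (b * w) * (z⁻¹ * a⁻¹) * (w⁻¹ * b⁻¹) = a * b * w * z * (z⁻¹ * a⁻¹) * (w⁻¹ * b⁻¹) := by rw [e1]
      _ = a * b * (w * (a⁻¹ * (w⁻¹ * b⁻¹))) := by group
      _ = a * b * ((a⁻¹ * w) * (w⁻¹ * b⁻¹)) := by rw [hw' a⁻¹]; group
      _ = a * b * a⁻¹ * b⁻¹ := by group
  rw [h3]
  exact R.mul_mem (R.mul_mem (R.mul_mem ha hb) (R.inv_mem ha)) (R.inv_mem hb)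

/-- **The degrees of the covers of `E₇(q)`.** -/
theorem minDeg (F : Type u) [Field F] [Fintype F] : MinDeg ↥(chevE7.group F) (Fintype.card F ^ 16) := by
  intro G _ _ π hπ d ρ hρ hd
  obtain ⟨T, H⟩ := typE7.exists_lifted (K := F) (π := π) ⟨hπ.surj, hπ.central⟩
  have HS := sysX H ρ
  have hfr : finrank ℂ (Fin d → ℂ) = d := finrank_fin_fun ℂ
  have hm : Moves (fun v (a : F) => ρ (T v a)) (PhiZ chevE7 7 []) := by
    obtain ⟨g, hg⟩ := exists_ne_one ρ hρ (by rw [hfr]; exact hd)
    have h1 : ∃ r < chevE7.nroots, ∃ a : F, ρ (T (vec chevE7 7 r) a) ≠ 1 := by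
      by_contra hc
      push Not at hc
      apply hg
      have h3 : (MonoidHom.ker ρ).map π = ⊤ := by
        rw [eq_top_iff]
        have h2 : chevE7.group F ≤ ((MonoidHom.ker ρ).map π).map (chevE7.group F).subtype := by
          rw [group_le_iff typE7.hp.inList]
          intro r hr t
          exact ⟨_, ⟨T (vec chevE7 7 r) t, hc r hr t, rfl⟩, H.map_vec hr t⟩
        intro s _
        obtain ⟨k, hk, hk'⟩ := h2 s.2
        have h4 : k = s := Subtype.ext hk'
        rw [← h4]
        exact hk
      have h4 := eq_one_of_map_top hπ (MonoidHom.ker ρ) h3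
      have h5 : g ∈ MonoidHom.ker ρ := by rw [h4]; trivial
      exact h5
    obtain ⟨r, hr, a, ha⟩ := h1
    have hr' : vec chevE7 7 r ∈ PhiZ chevE7 7 [] := by
      rw [PhiZ_nil]
      exact vec_mem hr
    have h2 : ∃ a v, (HS.act hr').toFun a v ≠ v := by
      by_contra hc
      push Not at hc
      exact ha (LinearMap.ext fun v => hc a v)
    obtain ⟨ψ, hψ, h3⟩ := AddAct.exists_wt_ne _ h2
    rw [Submodule.ne_bot_iff] at h3
    obtain ⟨v, hv, hv0⟩ := h3
    exact ⟨_, hr', ψ, hψ, v, hv0, hv⟩
  obtain ⟨n, hn, hdim⟩ := level77.exists_dim HS hm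
  obtain ⟨r, hr, ψ, hψ, v, hv, hv'⟩ := hm
  have h1 := hdim r hr ψ hψ
  have h2 := Submodule.finrank_le (wt (fun v (a : F) => ρ (T v a)) r ψ)
  rw [h1, hfr] at h2
  exact (Nat.le_mul_of_pos_right _ hn).trans h2

end Cfsg.Agent.H111.Fpf.SevenMin
end
end

-- part: H631/Fpf/Deriv
section
set_option linter.all false
open scoped Cfsg.Agent.FastGrp

/-!
# A criterion without the Schur multiplier (for S4228, helper631)

`not_may_of_derived` : `z ∈ A ≤ [V, V]`, `z` commutes with `V`, `x` of prime order `r` normalises `A` and does not commute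
with `z`. Then `¬ May r S`, whatever the Schur multiplier of `S` (the preimage of `z` in a cover is central in the preimage of
`A`).
-/

set_option autoImplicit false
set_option linter.style.haveILetI false

namespace Cfsg.Agent.H631.Fpf

universe u v w

open Cfsg.Agent.H80.Fpf
open scoped commutatorElement

/-- a lift of an element centralising `V` centralises all preimages of the elements of `[V, V]` -/
theorem comm_of_derived {G : Type u} [Group G] {S : Type v} [Group S] {π : G →* S} (hπ : IsCover π) {V : Subgroup S}
    {z : G} (hz : ∀ v ∈ V, v * π z = π z * v) {a : G} (ha : π a ∈ ⁅V, V⁆) : z * a = a * z := by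
  let W : Subgroup G := V.comap π
  have hcen : ∀ w : W, ⁅z, (w : G)⁆ ∈ Subgroup.center G := by
    intro w
    apply hπ.central
    rw [MonoidHom.mem_ker, map_commutatorElement, commutatorElement_eq_one_iff_mul_comm]
    exact (hz _ w.2).symm
  let φ : W →* Subgroup.center G :=
    { toFun := fun w => ⟨⁅z, (w : G)⁆, hcen w⟩
      map_one' := by
        apply Subtype.ext
        show ⁅z, 1⁆ = 1
        rw [commutatorElement_one_right]
      map_mul' := by
        intro x y
        apply Subtype.ext
        show ⁅z, (x : G) * y⁆ = ⁅z, (x : G)⁆ * ⁅z, (y : G)⁆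
        have h1 : ⁅z, (x : G) * y⁆ = ⁅z, (x : G)⁆ * (x * ⁅z, (y : G)⁆ * (x : G)⁻¹) := by
          simp only [commutatorElement_def]; group
        rw [h1, (Subgroup.mem_center_iff.1 (hcen y) x), mul_inv_cancel_right] }
  have hker : commutator W ≤ φ.ker := by
    rw [commutator_def, Subgroup.commutator_le]
    intro x _ y _
    rw [MonoidHom.mem_ker, map_commutatorElement, commutatorElement_eq_one_iff_mul_comm]
    apply Subtype.ext
    exact (Subgroup.mem_center_iff.1 (φ x).2 (φ y)).symm
  -- `a` is a commutator product times a central element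
  have h1 : (commutator W).map ((π.comp W.subtype)) = ⁅V, V⁆ := by
    rw [commutator_def, Subgroup.map_commutator]
    have h2 : (⊤ : Subgroup W).map (π.comp W.subtype) = V := by
      rw [← Subgroup.map_map, ← MonoidHom.range_eq_map, Subgroup.range_subtype]
      exact Subgroup.map_comap_eq_self_of_surjective hπ.surj V
    rw [h2]
  rw [← h1] at ha
  obtain ⟨w, hw, hwa⟩ := ha
  have hw1 : ⁅z, (w : G)⁆ = 1 := by
    have h2 := (MonoidHom.mem_ker).1 (hker hw)
    exact congrArg (fun c : Subgroup.center G => (c : G)) h2
  rw [commutatorElement_eq_one_iff_mul_comm] at hw1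
  have hc : a * (w : G)⁻¹ ∈ Subgroup.center G := by
    apply hπ.central
    rw [MonoidHom.mem_ker, map_mul, map_inv]
    have h2 : π (w : G) = π a := hwa
    rw [h2, mul_inv_cancel]
  have h3 : a = (a * (w : G)⁻¹) * w := by group
  have h4 := Subgroup.mem_center_iff.1 hc z
  calc z * a = z * (a * (w : G)⁻¹) * w := by group
    _ = (a * (w : G)⁻¹) * z * w := by rw [h4]
    _ = (a * (w : G)⁻¹) * (z * w) := by group
    _ = (a * (w : G)⁻¹) * (w * z) := by rw [hw1]
    _ = _ := by group

/-- **The criterion.** -/
theorem not_may_of_derived {S : Type v} [Group S] [Finite S] [IsSimpleGroup S] {r : ℕ} (hr : r.Prime)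
    (hr2 : r ≠ 2) {V A : Subgroup S} (hA : A ≤ ⁅V, V⁆) {z : S} (hzA : z ∈ A) (hz : ∀ v ∈ V, v * z = z * v)
    {x : S} (hx : orderOf x = r) (hxA : x ∈ Subgroup.normalizer (A : Set S)) (hne : x * z ≠ z * x) : ¬ May r S := by
  intro h
  obtain ⟨G, _, _, π, hπ, hF⟩ := h
  have hker := hF.not_dvd_ker hπ hr hr2
  obtain ⟨g, rfl, hg⟩ := exists_lift hπ hr hker hx
  obtain ⟨y, rfl⟩ := hπ.surj z
  obtain ⟨n, ρ, hn, hρ⟩ := hF
  let K : Subgroup G := A.comap π
  let L : Subgroup G := K ⊓ Subgroup.centralizer (K : Set G)
  have hLc : ∀ a ∈ L, ∀ b ∈ L, a * b = b * a := fun a ha b hb =>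
    (Subgroup.mem_centralizer_iff.1 ha.2 b hb.1).symm
  have hyL : y ∈ L := by
    refine Subgroup.mem_inf.2 ⟨hzA, ?_⟩
    rw [Subgroup.mem_centralizer_iff]
    intro a ha
    exact (comm_of_derived hπ hz (hA ha)).symm
  have hgK : ∀ k ∈ K, g * k * g⁻¹ ∈ K := by
    intro k hk
    show π (g * k * g⁻¹) ∈ A
    rw [map_mul, map_mul, map_inv]
    exact (Subgroup.mem_normalizer_iff.1 hxA _).1 hk
  have hgK' : ∀ k ∈ K, g⁻¹ * k * g ∈ K := by
    intro k hk
    show π (g⁻¹ * k * g) ∈ A
    rw [map_mul, map_mul, map_inv]
    exact (Subgroup.mem_normalizer_iff''.1 hxA _).1 hk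
  have hgL : ∀ k ∈ L, g * k * g⁻¹ ∈ L := by
    intro k hk
    refine Subgroup.mem_inf.2 ⟨hgK k hk.1, ?_⟩
    rw [Subgroup.mem_centralizer_iff]
    intro a ha
    have h1 := Subgroup.mem_centralizer_iff.1 hk.2 _ (hgK' a ha)
    calc a * (g * k * g⁻¹) = g * ((g⁻¹ * a * g) * k) * g⁻¹ := by group
      _ = g * (k * (g⁻¹ * a * g)) * g⁻¹ := by rw [h1]
      _ = _ := by group
  have h1 := comm_of_abelian ρ L g hr hLc (by rw [← hg, pow_orderOf_eq_one]) hgL (hρ g hg) y hyL
  have hρne : ∃ g, ρ g ≠ 1 := by
    by_contra hcon
    push Not at hcon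
    haveI : Nonempty (Fin n) := ⟨⟨0, hn⟩⟩
    obtain ⟨v, hv⟩ := exists_ne (0 : Fin n → ℂ)
    exact hv (hρ g hg v (by rw [hcon g]; rfl))
  have h2 : g * y * g⁻¹ * y⁻¹ ∈ MonoidHom.ker ρ := by
    apply (MonoidHom.mem_ker).2
    have h2 : g * y * g⁻¹ * y⁻¹ = (g * y) * (y * g)⁻¹ := by group
    rw [h2, map_mul, h1, ← map_mul, mul_inv_cancel, map_one]
  have h3 := (MonoidHom.mem_ker).1 (ker_le_of_simple hπ ρ hρne h2)
  apply hne
  rw [map_mul, map_mul, map_mul, map_inv, map_inv, mul_inv_eq_one, mul_inv_eq_iff_eq_mul] at h3
  exact h3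

end Cfsg.Agent.H631.Fpf
end

-- part: H80/FpfB/E6Two
section
prune_inst 0x10100500040000004000000020000020600000020000000000000000094100000000000000000000000008800000002002080000400000000000000000040000000000000000a188000000000000000000000000000000000000000000000000000000000
set_option linter.all false
open scoped Cfsg.Agent.FastGrp

-- part: H80/FpfB/HeisTwo
section
/-!
# Degrees of the covers from an extraspecial subgroup, without the Schur multiplier

`minDeg_extra` : `E ≤ [V, V]`, `z` of order two in `E`, centralised by `V`, the commutators of `E` are `1` or `z` and `z`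
generates the centre of `E`: the degrees of all covers are at least `B`, `B ^ 4 ≤ 8 |E|`.
-/

set_option autoImplicit false
set_option linter.style.haveILetI false

namespace Cfsg.Agent.H80.FpfB

universe u v w

open Cfsg.Agent.H80.Fpf Module

/-- An irreducible constituent of an eigenspace of a central element. -/
theorem exists_irr_eigen {H : Type u} [Group H] {V : Type w} [AddCommGroup V] [Module ℂ V]
    [FiniteDimensional ℂ V] (ρ : Representation ℂ H V) {z : H} (hz : ∀ h : H, z * h = h * z) {μ : ℂ}
    (hμ : Module.End.HasEigenvalue (ρ z) μ) :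
    ∃ (n : ℕ) (σ : Representation ℂ H (Fin n → ℂ)), σ.IsIrreducible ∧
      n ≤ finrank ℂ (Module.End.eigenspace (ρ z) μ) ∧ σ z = μ • (LinearMap.id : (Fin n → ℂ) →ₗ[ℂ] (Fin n → ℂ)) ∧
      ∀ (h : H) (c : ℂ), ρ h = c • (LinearMap.id : V →ₗ[ℂ] V) →
        σ h = c • (LinearMap.id : (Fin n → ℂ) →ₗ[ℂ] (Fin n → ℂ)) := by
  let σ₀ : Subrepresentation ρ := ⟨Module.End.eigenspace (ρ z) μ, fun h v hv => by
    rw [Module.End.mem_eigenspace_iff] at hv ⊢
    have h1 : ρ z (ρ h v) = ρ h (ρ z v) := by
      rw [← Module.End.mul_apply, ← map_mul, hz h, map_mul, Module.End.mul_apply]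
    rw [h1, hv, map_smul]⟩
  haveI : Nontrivial σ₀.toSubmodule := by
    rw [Submodule.nontrivial_iff_ne_bot]
    exact hμ
  obtain ⟨σ, hσ⟩ := Cfsg.Agent.S1492.exists_irreducible_sub σ₀.toRepresentation
  obtain ⟨d, τ, hτ, ⟨e⟩⟩ := Cfsg.Agent.S0184.exists_fin_model σ.toRepresentation hσ
  have hcomm : ∀ (g : H) (v : σ.toSubmodule), e (σ.toRepresentation g v) = τ g (e v) := fun g v =>
    Representation.IntertwiningMap.isIntertwining _ _ e.toIntertwiningMap g v
  refine ⟨d, τ, hτ, ?_, ?_, ?_⟩
  · have h1 : Module.finrank ℂ σ.toSubmodule = d := by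
      rw [e.toLinearEquiv.finrank_eq]; simp only [_root_.Module.finrank_fintype_fun_eq_card, _root_.Fintype.card_fin]
    rw [← h1]
    exact Submodule.finrank_le _
  · apply LinearMap.ext
    intro v
    obtain ⟨w, rfl⟩ := e.toLinearEquiv.surjective v
    have h1 : σ.toRepresentation z w = μ • w := by
      apply Subtype.ext
      apply Subtype.ext
      exact Module.End.mem_eigenspace_iff.1 (w : σ₀.toSubmodule).2
    have h2 := hcomm z w
    rw [h1] at h2
    show τ z (e w) = μ • (e w)
    rw [← h2]
    exact map_smul e.toLinearEquiv μ w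
  · intro h c hc
    apply LinearMap.ext
    intro v
    obtain ⟨w, rfl⟩ := e.toLinearEquiv.surjective v
    have h1 : σ.toRepresentation h w = c • w := by
      apply Subtype.ext
      apply Subtype.ext
      exact LinearMap.congr_fun hc _
    have h2 := hcomm h w
    rw [h1] at h2
    show τ h (e w) = c • (e w)
    rw [← h2]
    exact map_smul e.toLinearEquiv c w

/-- An irreducible character vanishing outside `R` has degree squared at least `|H : R|`. -/
theorem card_le_sq_mul {H : Type u} [Group H] [Finite H] {n : ℕ} (τ : Representation ℂ H (Fin n → ℂ))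
    (hτ : τ.IsIrreducible) (R : Subgroup H)
    (hR : ∀ g : H, g ∉ R → ∃ h : H, ∃ c : ℂ, c ≠ 1 ∧
      τ (g * h * g⁻¹ * h⁻¹) = c • (LinearMap.id : (Fin n → ℂ) →ₗ[ℂ] (Fin n → ℂ))) :
    Nat.card H ≤ n ^ 2 * Nat.card R := by
  classical
  haveI := Fintype.ofFinite H
  haveI := hτ
  have h0 : ∀ g : H, g ∉ R → τ.character g = 0 := by
    intro g hg
    obtain ⟨h, c, hc1, hc⟩ := hR g hg
    have h2 : g = (g * h * g⁻¹ * h⁻¹) * (h * g * h⁻¹) := by group
    have h3 : τ.character g = c * τ.character g := by
      conv_lhs => rw [h2]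
      have h4 : τ ((g * h * g⁻¹ * h⁻¹) * (h * g * h⁻¹)) = c • τ (h * g * h⁻¹) := by
        rw [map_mul, hc]
        apply LinearMap.ext
        intro v
        simp only [_root_.map_mul, _root_.Algebra.smul_mul_assoc, _root_.LinearMap.smul_apply, _root_.Module.End.mul_apply, _root_.LinearMap.id_coe, _root_.id_eq]
      have h5 : τ.character ((g * h * g⁻¹ * h⁻¹) * (h * g * h⁻¹)) = c * τ.character (h * g * h⁻¹) := by
        show LinearMap.trace ℂ _ (τ ((g * h * g⁻¹ * h⁻¹) * (h * g * h⁻¹))) = c * LinearMap.trace ℂ _ (τ (h * g * h⁻¹))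
        rw [h4, map_smul, smul_eq_mul]
      rw [h5, Representation.char_conj]
    have h6 : (1 - c) * τ.character g = 0 := by rw [sub_mul, one_mul, ← h3, sub_self]
    rcases mul_eq_zero.1 h6 with h7 | h7
    · exact absurd (sub_eq_zero.1 h7).symm hc1
    · exact h7
  have hsum := Cfsg.Agent.S0191.sum_norm_sq τ
  have h1 : ∑ g : H, ‖τ.character g‖ ^ 2 ≤ ∑ g ∈ (Finset.univ : Finset H).filter (fun g => g ∈ R), (n : ℝ) ^ 2 := by
    rw [Finset.sum_filter]
    apply Finset.sum_le_sum
    intro g _
    by_cases hg : g ∈ R
    · rw [if_pos hg]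
      have h2 := Cfsg.Agent.Characters.Values.norm_character_le τ g
      rw [Module.finrank_fin_fun] at h2
      exact pow_le_pow_left₀ (norm_nonneg _) h2 2
    · rw [if_neg hg, h0 g hg]; simp
  rw [Finset.sum_const, nsmul_eq_mul, hsum] at h1
  have h2 : ((Finset.univ : Finset H).filter (fun g => g ∈ R)).card = Nat.card R := by
    rw [Nat.card_eq_fintype_card, ← Fintype.card_subtype]
  rw [h2] at h1
  have h3 : ((Nat.card H : ℕ) : ℝ) ≤ ((n ^ 2 * Nat.card R : ℕ) : ℝ) := by
    push_cast
    rw [mul_comm]
    exact_mod_cast h1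
  exact_mod_cast h3

/-- In a nontrivial representation of a cover only the elements of the kernel are scalars. -/
theorem eq_one_of_scalar {G : Type u} [Group G] {S : Type v} [Group S] [IsSimpleGroup S] {π : G →* S}
    (hπ : IsCover π) (hnc : ∀ s : S, (∀ t, s * t = t * s) → s = 1) {d : ℕ} (ρ : Representation ℂ G (Fin d → ℂ))
    (hne : ∃ g, ρ g ≠ 1) {g : G} {c : ℂ} (hc : ρ g = c • (LinearMap.id : (Fin d → ℂ) →ₗ[ℂ] (Fin d → ℂ))) :
    π g = 1 := by
  apply hnc
  intro t
  obtain ⟨h, rfl⟩ := hπ.surj t
  have h0 : ρ g * ρ h = ρ h * ρ g := by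
    rw [hc]
    apply LinearMap.ext
    intro v
    show c • (ρ h v) = ρ h (c • v)
    rw [map_smul]
  have h1 : g * h * (h * g)⁻¹ ∈ MonoidHom.ker ρ := by
    apply (MonoidHom.mem_ker).2
    rw [map_mul, map_mul, h0, ← map_mul, ← map_mul, mul_inv_cancel, map_one]
  have h2 := (MonoidHom.mem_ker).1 (ker_le_of_simple hπ ρ hne h1)
  rw [map_mul, map_inv, mul_inv_eq_one, map_mul, map_mul] at h2
  exact h2

theorem card_mul_card_le {H : Type u} [Group H] [Finite H] (A B : Subgroup H) :
    Nat.card A * Nat.card B ≤ Nat.card H * Nat.card ↥(A ⊓ B) := by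
  have h1 : Nat.card ↥(A ⊓ B) * A.relIndex B = Nat.card B := by
    have h2 := (A.subgroupOf B).card_mul_index
    have h3 : Nat.card (A.subgroupOf B) = Nat.card ↥(A ⊓ B) := by
      rw [← Subgroup.inf_subgroupOf_right]
      exact Nat.card_congr (Subgroup.subgroupOfEquivOfLe inf_le_right).toEquiv
    rw [h3] at h2
    exact h2
  have h3 : A.relIndex B ≤ A.index := by
    have h4 := Subgroup.relIndex_le_of_le_right (H := A) (K := B) (L := ⊤) le_top (by
      rw [Subgroup.relIndex_top_right]; exact Subgroup.index_ne_zero_of_finite)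
    rwa [Subgroup.relIndex_top_right] at h4
  rw [← h1, ← A.card_mul_index]
  calc Nat.card A * (Nat.card ↥(A ⊓ B) * A.relIndex B) ≤ Nat.card A * (Nat.card ↥(A ⊓ B) * A.index) :=
        Nat.mul_le_mul_left _ (Nat.mul_le_mul_left _ h3)
    _ = _ := by ring

theorem card_comap {G : Type u} [Group G] [Finite G] {S : Type v} [Group S] [Finite S] {π : G →* S}
    (hπ : Function.Surjective π) (K : Subgroup S) : Nat.card (K.comap π) = Nat.card K * Nat.card π.ker := by
  have h1 := (K.comap π).card_mul_index
  rw [Subgroup.index_comap_of_surjective K hπ] at h1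
  have h2 := K.card_mul_index
  have h3 := π.ker.card_mul_index
  rw [Subgroup.index_ker, MonoidHom.range_eq_top.2 hπ, Subgroup.card_top] at h3
  have h4 : 0 < K.index := Nat.pos_of_ne_zero Subgroup.index_ne_zero_of_finite
  apply Nat.eq_of_mul_eq_mul_right h4
  rw [h1, ← h3, ← h2]
  ring

/-- the elements acting centrally -/
def cen {H : Type u} [Group H] {n : ℕ} (σ : Representation ℂ H (Fin n → ℂ)) : Subgroup H where
  carrier := {g | ∀ h, σ g * σ h = σ h * σ g}
  one_mem' := fun h => by rw [map_one, one_mul, mul_one]
  mul_mem' := fun {a b} ha hb h => by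
    rw [map_mul, mul_assoc, hb h, ← mul_assoc, ha h, mul_assoc]
  inv_mem' := fun {a} ha h => by
    have h1 := ha h
    have e1 : σ a⁻¹ * σ a = 1 := by rw [← map_mul, inv_mul_cancel, map_one]
    have e2 : σ a * σ a⁻¹ = 1 := by rw [← map_mul, mul_inv_cancel, map_one]
    calc σ a⁻¹ * σ h = σ a⁻¹ * (σ h * (σ a * σ a⁻¹)) := by rw [e2, mul_one]
      _ = σ a⁻¹ * (σ h * σ a) * σ a⁻¹ := by simp only [mul_assoc]
      _ = σ a⁻¹ * (σ a * σ h) * σ a⁻¹ := by rw [h1]
      _ = (σ a⁻¹ * σ a) * σ h * σ a⁻¹ := by simp only [mul_assoc]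
      _ = σ h * σ a⁻¹ := by rw [e1, one_mul]

theorem mem_cen {H : Type u} [Group H] {n : ℕ} {σ : Representation ℂ H (Fin n → ℂ)} {g : H} :
    g ∈ cen σ ↔ ∀ h, σ g * σ h = σ h * σ g := Iff.rfl

theorem comm_eq_one {H : Type u} [Group H] {n : ℕ} {σ : Representation ℂ H (Fin n → ℂ)} {g h : H} :
    σ (g * h * g⁻¹ * h⁻¹) = 1 ↔ σ g * σ h = σ h * σ g := by
  have e : g * h * g⁻¹ * h⁻¹ = (g * h) * (h * g)⁻¹ := by group
  rw [e]
  constructor
  · intro h1
    have h2 : σ ((g * h) * (h * g)⁻¹) * σ (h * g) = σ (h * g) := by rw [h1, one_mul]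
    rw [← map_mul, inv_mul_cancel_right] at h2
    rw [← map_mul, h2, map_mul]
  · intro h1
    rw [map_mul, map_mul, h1, ← map_mul, ← map_mul, mul_inv_cancel, map_one]

theorem num_key {a b B D E K H R₁ R₂ I : ℕ} (hB : B ^ 4 ≤ 8 * E) (h1 : H ≤ a ^ 2 * R₁) (h2 : H ≤ b ^ 2 * R₂)
    (h3 : R₁ * R₂ ≤ H * I) (h4 : I ≤ 2 * K) (h5 : H = E * K) (hK : 0 < K) (hE : 0 < E) (hd : a + b ≤ D) : B ≤ D := by
  have hH : 0 < H := by rw [h5]; exact Nat.mul_pos hE hK
  have h6 : H * H ≤ (a ^ 2 * b ^ 2 * (2 * K)) * H := by
    calc H * H ≤ (a ^ 2 * R₁) * (b ^ 2 * R₂) := Nat.mul_le_mul h1 h2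
      _ = a ^ 2 * b ^ 2 * (R₁ * R₂) := by ring
      _ ≤ a ^ 2 * b ^ 2 * (H * (2 * K)) := Nat.mul_le_mul_left _ (h3.trans (Nat.mul_le_mul_left _ h4))
      _ = _ := by ring
  have h7 := Nat.le_of_mul_le_mul_right h6 hH
  rw [h5] at h7
  have h8 : E * K ≤ (2 * (a ^ 2 * b ^ 2)) * K := by
    calc E * K ≤ _ := h7
      _ = _ := by ring
  have h9 := Nat.le_of_mul_le_mul_right h8 hK
  have h10 : 16 * (a ^ 2 * b ^ 2) ≤ (a + b) ^ 4 := by
    have h11 : 4 * (a * b) ≤ (a + b) ^ 2 := by
      have := four_mul_le_pow_two_add a b
      linarith only [this]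
    calc 16 * (a ^ 2 * b ^ 2) = (4 * (a * b)) ^ 2 := by ring
      _ ≤ ((a + b) ^ 2) ^ 2 := Nat.pow_le_pow_left h11 2
      _ = _ := by ring
  have h12 : B ^ 4 ≤ (a + b) ^ 4 := by omega
  exact ((Nat.pow_le_pow_iff_left (by norm_num)).1 h12).trans hd

/-- **Degrees of the covers from an extraspecial subgroup in a perfect centraliser.** -/
theorem minDeg_extra {S : Type v} [Group S] [Finite S] [IsSimpleGroup S] (hnc : ∀ s : S, (∀ t, s * t = t * s) → s = 1)
    {E V : Subgroup S} {z : S} (hz1 : z ≠ 1) (hzz : z * z = 1) (hEV : E ≤ ⁅V, V⁆) (hzE : z ∈ E)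
    (hzV : ∀ v ∈ V, v * z = z * v)
    (hcE : ∀ g ∈ E, ∀ h ∈ E, g * h * g⁻¹ * h⁻¹ = 1 ∨ g * h * g⁻¹ * h⁻¹ = z)
    (hZE : ∀ g ∈ E, (∀ h ∈ E, g * h = h * g) → g = 1 ∨ g = z) {B : ℕ} (hB : B ^ 4 ≤ 8 * Nat.card E) :
    MinDeg S B := by
  intro G _ _ π hπ d ρ hρ hd
  haveI := hρ
  obtain ⟨y, hy⟩ := hπ.surj z
  let H : Subgroup G := E.comap π
  have hyc : ∀ h ∈ H, y * h = h * y := fun h hh =>
    Cfsg.Agent.H631.Fpf.comm_of_derived hπ (z := y) (V := V) (fun v hv => by rw [hy]; exact hzV v hv) (hEV hh)
  have hne : ∃ g, ρ g ≠ 1 := by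
    by_contra hcon
    push Not at hcon
    have h1 := degree_one_of_scalar ρ (fun g => ⟨1, by rw [hcon g, one_smul]; rfl⟩)
    omega
  have hns : ∀ c : ℂ, ρ y ≠ c • (LinearMap.id : (Fin d → ℂ) →ₗ[ℂ] (Fin d → ℂ)) := by
    intro c hc
    have h1 := eq_one_of_scalar hπ hnc ρ hne hc
    rw [hy] at h1
    exact hz1 h1
  have hsc : ∀ k : G, π k = 1 → ∃ c : ℂ, ρ k = c • (LinearMap.id : (Fin d → ℂ) →ₗ[ℂ] (Fin d → ℂ)) := by
    intro k hk
    apply Cfsg.Agent.Characters.CentralCharacter.exists_scalar_of_commute ρ (ρ k)
    intro g v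
    have h1 := Subgroup.mem_center_iff.1 (hπ.central ((MonoidHom.mem_ker).2 hk)) g
    rw [← Module.End.mul_apply, ← map_mul, ← h1, map_mul, Module.End.mul_apply]
  haveI : Nonempty (Fin d) := ⟨⟨0, by omega⟩⟩
  obtain ⟨μ, hμ⟩ := Module.End.exists_eigenvalue (ρ y)
  obtain ⟨c, hc⟩ := hsc (y * y) (by rw [map_mul, hy, hzz])
  have hinv : ρ y⁻¹ * ρ y = 1 := by rw [← map_mul, inv_mul_cancel, map_one]
  have hμ0 : μ ≠ 0 := by
    rintro rfl
    obtain ⟨v, hv⟩ := hμ.exists_hasEigenvector
    have h1 := hv.apply_eq_smul
    rw [zero_smul] at h1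
    apply hv.2
    have h2 := LinearMap.congr_fun hinv v
    rw [Module.End.mul_apply, h1, map_zero] at h2
    exact h2.symm
  have hcμ : c = μ * μ := by
    obtain ⟨v, hv⟩ := hμ.exists_hasEigenvector
    have h1 := hv.apply_eq_smul
    have h2 := LinearMap.congr_fun hc v
    rw [map_mul, Module.End.mul_apply, h1, map_smul, h1, smul_smul] at h2
    have h3 : (μ * μ) • v = c • v := h2
    have h4 : (μ * μ - c) • v = 0 := by rw [sub_smul, h3, sub_self]
    rcases smul_eq_zero.1 h4 with h5 | h5
    · exact (sub_eq_zero.1 h5).symm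
    · exact absurd h5 hv.2
  have hμ' : Module.End.HasEigenvalue (ρ y) (-μ) := by
    by_contra hcon
    have h1 : LinearMap.ker (ρ y - algebraMap ℂ (Module.End ℂ (Fin d → ℂ)) (-μ)) = ⊥ := by
      by_contra h2
      exact hcon (by
        rw [Module.End.hasEigenvalue_iff]
        rw [Module.End.eigenspace_def]
        exact h2)
    apply hns μ
    apply LinearMap.ext
    intro v
    have h3 : ρ y v - μ • v ∈ LinearMap.ker (ρ y - algebraMap ℂ (Module.End ℂ (Fin d → ℂ)) (-μ)) := by
      rw [LinearMap.mem_ker, LinearMap.sub_apply, Module.algebraMap_end_apply, map_sub, map_smul]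
      have h4 := LinearMap.congr_fun hc v
      rw [map_mul, Module.End.mul_apply, hcμ] at h4
      rw [h4]
      show (μ * μ) • v - μ • (ρ y v) - (-μ) • (ρ y v - μ • v) = 0
      module
    rw [h1, Submodule.mem_bot, sub_eq_zero] at h3
    exact h3
  let ρH : Representation ℂ H (Fin d → ℂ) := ρ.comp H.subtype
  let yH : H := ⟨y, by show π y ∈ E; rw [hy]; exact hzE⟩
  obtain ⟨a, σ₁, hσ₁, ha, hσ₁y, hσ₁s⟩ := exists_irr_eigen ρH (z := yH)
    (fun h => Subtype.ext (hyc h h.2)) (μ := μ) hμ
  obtain ⟨b, σ₂, hσ₂, hb, hσ₂y, hσ₂s⟩ := exists_irr_eigen ρH (z := yH)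
    (fun h => Subtype.ext (hyc h h.2)) (μ := -μ) hμ'
  have hab : a + b ≤ d := by
    have h1 : Disjoint (Module.End.eigenspace (ρH yH) μ) (Module.End.eigenspace (ρH yH) (-μ)) := by
      rw [Submodule.disjoint_def]
      intro v h2 h3
      rw [Module.End.mem_eigenspace_iff] at h2 h3
      rw [h2] at h3
      have h4 : (2 * μ) • v = 0 := by
        have h5 : (2 * μ) • v = μ • v - (-μ) • v := by module
        rw [h5, h3, sub_self]
      rcases smul_eq_zero.1 h4 with h5 | h5
      · exfalso
        rcases mul_eq_zero.1 h5 with h6 | h6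
        · norm_num at h6
        · exact hμ0 h6
      · exact h5
    have h2 := Submodule.finrank_add_finrank_le_of_disjoint h1
    rw [Module.finrank_fin_fun] at h2
    omega
  -- commutators of `H`
  have hkH : ∀ k : G, π k = 1 → k ∈ H := fun k hk => by
    show π k ∈ E
    rw [hk]; exact one_mem _
  have hk : ∀ g h : H, ∃ k : H, π k = 1 ∧ (g * h * g⁻¹ * h⁻¹ = k ∨ g * h * g⁻¹ * h⁻¹ = k * yH) := by
    intro g h
    have e1 : π ((g * h * g⁻¹ * h⁻¹ : H) : G) = π g * π h * (π g)⁻¹ * (π h)⁻¹ := by
      rw [← map_inv, ← map_inv, ← map_mul, ← map_mul, ← map_mul]; rfl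
    rcases hcE (π g) g.2 (π h) h.2 with h1 | h1
    · exact ⟨g * h * g⁻¹ * h⁻¹, by rw [e1, h1], Or.inl rfl⟩
    · refine ⟨g * h * g⁻¹ * h⁻¹ * yH⁻¹, ?_, Or.inr (by group)⟩
      show π (((g * h * g⁻¹ * h⁻¹ : H) : G) * y⁻¹) = 1
      rw [map_mul, e1, h1, map_inv, hy, mul_inv_cancel]
  have hsH : ∀ k : H, π k = 1 → ∃ c : ℂ, ρH k = c • (LinearMap.id : (Fin d → ℂ) →ₗ[ℂ] (Fin d → ℂ)) :=
    fun k hk => hsc k hk
  -- commutators act as scalars on the constituents
  have hcs : ∀ {n : ℕ} (σ : Representation ℂ H (Fin n → ℂ)) (ν : ℂ),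
      σ yH = ν • (LinearMap.id : (Fin n → ℂ) →ₗ[ℂ] (Fin n → ℂ)) →
      (∀ (h : H) (c : ℂ), ρH h = c • (LinearMap.id : (Fin d → ℂ) →ₗ[ℂ] (Fin d → ℂ)) →
        σ h = c • (LinearMap.id : (Fin n → ℂ) →ₗ[ℂ] (Fin n → ℂ))) →
      ∀ g h : H, ∃ c : ℂ, σ (g * h * g⁻¹ * h⁻¹) = c • (LinearMap.id : (Fin n → ℂ) →ₗ[ℂ] (Fin n → ℂ)) := by
    intro n σ ν hν hσs g h
    obtain ⟨k, hk1, hk2⟩ := hk g h
    obtain ⟨c, hc⟩ := hsH k hk1
    have h1 := hσs k c hc
    rcases hk2 with h2 | h2
    · exact ⟨c, by rw [h2, h1]⟩
    · refine ⟨c * ν, ?_⟩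
      rw [h2, map_mul, h1, hν]
      apply LinearMap.ext
      intro v
      show c • (ν • v) = (c * ν) • v
      rw [smul_smul]
  have hcard : ∀ {n : ℕ} (σ : Representation ℂ H (Fin n → ℂ)) (ν : ℂ), σ.IsIrreducible →
      σ yH = ν • (LinearMap.id : (Fin n → ℂ) →ₗ[ℂ] (Fin n → ℂ)) →
      (∀ (h : H) (c : ℂ), ρH h = c • (LinearMap.id : (Fin d → ℂ) →ₗ[ℂ] (Fin d → ℂ)) →
        σ h = c • (LinearMap.id : (Fin n → ℂ) →ₗ[ℂ] (Fin n → ℂ))) →
      Nat.card H ≤ n ^ 2 * Nat.card (cen σ) := by
    intro n σ ν hσ hν hσs
    refine card_le_sq_mul σ hσ (cen σ) fun g hg => ?_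
    rw [mem_cen] at hg
    push Not at hg
    obtain ⟨h, hh⟩ := hg
    obtain ⟨c, hc⟩ := hcs σ ν hν hσs g h
    refine ⟨h, c, ?_, hc⟩
    rintro rfl
    rw [one_smul] at hc
    exact hh (comm_eq_one.1 hc)
  have hI : Nat.card ↥(cen σ₁ ⊓ cen σ₂) ≤ 2 * Nat.card π.ker := by
    have h1 : (cen σ₁ ⊓ cen σ₂).map H.subtype ≤ (Subgroup.zpowers z).comap π := by
      rintro _ ⟨g, hg, rfl⟩
      obtain ⟨hg1, hg2⟩ := Subgroup.mem_inf.1 hg
      have h2 : ∀ h : H, π (g * h * g⁻¹ * h⁻¹ : H) = 1 := by
        intro h
        obtain ⟨k, hk1, hk2⟩ := hk g h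
        rcases hk2 with h3 | h3
        · rw [h3]; exact hk1
        · exfalso
          obtain ⟨c, hc⟩ := hsH k hk1
          have e1 : σ₁ (k * yH) = 1 := by rw [← h3]; exact comm_eq_one.2 (hg1 h)
          have e2 : σ₂ (k * yH) = 1 := by rw [← h3]; exact comm_eq_one.2 (hg2 h)
          rw [map_mul, hσ₁s k c hc, hσ₁y] at e1
          rw [map_mul, hσ₂s k c hc, hσ₂y] at e2
          haveI := hσ₁
          haveI := hσ₂
          have ha0 : 0 < a := Cfsg.Agent.Blocks.CliffordCentral.pos_of_irreducible σ₁
          have hb0 : 0 < b := Cfsg.Agent.Blocks.CliffordCentral.pos_of_irreducible σ₂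
          have f1 := congrFun (LinearMap.congr_fun e1 (Pi.single ⟨0, ha0⟩ 1)) ⟨0, ha0⟩
          have f2 := congrFun (LinearMap.congr_fun e2 (Pi.single ⟨0, hb0⟩ 1)) ⟨0, hb0⟩
          simp only [_root_.Algebra.mul_smul_comm, _root_.Algebra.smul_mul_assoc, _root_.LinearMap.smul_apply, _root_.Module.End.mul_apply, _root_.LinearMap.id_coe, _root_.id_eq, _root_.Pi.smul_apply, _root_.Pi.single_eq_same, _root_.smul_eq_mul, _root_.mul_one, _root_.Module.End.one_apply, _root_.neg_smul, _root_.LinearMap.neg_apply, _root_.Pi.neg_apply] at f1 f2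
          rw [f1] at f2
          norm_num at f2
      have h3 : π g = 1 ∨ π g = z := by
        refine hZE (π g) g.2 fun e he => ?_
        obtain ⟨h, rfl⟩ := hπ.surj e
        have h4 := h2 ⟨h, he⟩
        have h5 : π (g : G) * π h * (π (g : G))⁻¹ * (π h)⁻¹ = 1 := by
          rw [← map_inv, ← map_inv, ← map_mul, ← map_mul, ← map_mul]; exact h4
        rw [mul_inv_eq_one, mul_inv_eq_iff_eq_mul] at h5
        exact h5
      show π (g : G) ∈ Subgroup.zpowers z
      rcases h3 with h4 | h4
      · rw [h4]; exact one_mem _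
      · rw [h4]; exact Subgroup.mem_zpowers z
    have h3 : Nat.card ((cen σ₁ ⊓ cen σ₂).map H.subtype) = Nat.card ↥(cen σ₁ ⊓ cen σ₂) :=
      Subgroup.card_map_of_injective H.subtype_injective
    rw [← h3]
    refine (Subgroup.card_le_of_le h1).trans ?_
    rw [card_comap hπ.surj, Nat.card_zpowers]
    exact Nat.mul_le_mul_right _ (Nat.le_of_dvd (by norm_num) (orderOf_dvd_of_pow_eq_one (by rw [sq, hzz])))
  exact num_key hB (hcard σ₁ μ hσ₁ hσ₁y hσ₁s) (hcard σ₂ (-μ) hσ₂ hσ₂y hσ₂s) (card_mul_card_le _ _) hI
    (card_comap hπ.surj E) Nat.card_pos Nat.card_pos hab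

end Cfsg.Agent.H80.FpfB
end

-- part: H80/FpfB/E6Two
section
/-!
# The degrees of the covers of `²E₆(2)` are at least 64
-/

set_option autoImplicit false
set_option linter.style.haveILetI false

namespace Cfsg.Agent.H80.FpfB

universe u v w

open Cfsg.Agent.H80.Fpf Cfsg.Lie Cfsg.Agent.H934.Heis Cfsg.Agent.H934.HeisData Cfsg.Agent.H934.HeisTw
  Cfsg.Agent.H934.HeisTwE6 Cfsg.Agent.ChevalleyStructure Cfsg.Agent.ChevalleyStructure.TwE6Basic
  Cfsg.Agent.ChevalleyStructure.TwE6BN

section Tw

variable {Γ V A K : Type*} [Group Γ] [Finite Γ] [AddCommGroup V] [AddCommGroup A] {D : Data Γ V A K} {σ : Γ →* Γ}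
  {G : Subgroup Γ} {φ : A → A} {sV : V → V}

theorem minDeg_tw_two [Nontrivial A] [Finite V] [Finite A] (T : TwData D σ G φ sV) [IsSimpleGroup G]
    {a0 : A} (h0 : φ a0 = a0) (ha0 : a0 ≠ 0) (haa : a0 + a0 = 0) (h2 : ∀ a, φ a = a → a = 0 ∨ a = a0)
    (hnc : ∀ s : G, (∀ t, s * t = t * s) → s = 1)
    (hperf : ∀ z : G, (z : Γ) = D.z a0 → ⁅Subgroup.centralizer ({z} : Set G), Subgroup.centralizer ({z} : Set G)⁆ =
      Subgroup.centralizer ({z} : Set G)) {B : ℕ}
    (hB : B ^ 4 ≤ 8 * Nat.card (TwData.Q0 D G)) : MinDeg G B := by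
  have hcQ : Nat.card (D.Qg.subgroupOf G) = Nat.card (TwData.Q0 D G) := by
    have h1 : Nat.card ((D.Qg ⊓ G).subgroupOf G) = Nat.card ↥(D.Qg ⊓ G) :=
      Nat.card_congr (Subgroup.subgroupOfEquivOfLe inf_le_right).toEquiv
    rw [Subgroup.inf_subgroupOf_right] at h1
    rw [h1, inf_comm]; rfl
  have hZ : ∀ g : G, (g : Γ) ∈ D.Zg → g = 1 ∨ g = ⟨D.z a0, T.z_mem a0 h0⟩ := by
    rintro g ⟨a, ha⟩
    have ha' : D.z a = (g : Γ) := ha
    rcases h2 a (T.fix_z (by rw [ha']; exact g.2)) with rfl | rfl
    · left
      apply Subtype.ext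
      rw [← ha', D.z_zero]; rfl
    · right
      apply Subtype.ext
      rw [← ha']
  have hc0 : ∀ g : G, (g : Γ) ∈ D.Qg → g * ⟨D.z a0, T.z_mem a0 h0⟩ = ⟨D.z a0, T.z_mem a0 h0⟩ * g := by
    intro g hg
    exact Subtype.ext (D.central (D.Qg_le hg) a0)
  refine minDeg_extra hnc (E := D.Qg.subgroupOf G) (z := ⟨D.z a0, T.z_mem a0 h0⟩)
    (V := Subgroup.centralizer ({⟨D.z a0, T.z_mem a0 h0⟩} : Set G)) ?_ ?_ ?_ ?_ ?_ ?_ ?_ (by rw [hcQ]; exact hB)
  · intro h
    exact ha0 (D.z_inj _ (congrArg Subtype.val h))
  · apply Subtype.ext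
    show D.z a0 * D.z a0 = 1
    rw [← D.z_add, haa, D.z_zero]
  · rw [hperf _ rfl]
    intro g hg
    exact Subgroup.mem_centralizer_singleton_iff.2 (hc0 g hg)
  · exact D.z_mem_Qg a0
  · intro v hv
    exact Subgroup.mem_centralizer_singleton_iff.1 hv
  · intro g hg h hh
    have h1 := T.hyp.comm_mem ⟨g, g.2, hg⟩ trivial ⟨h, h.2, hh⟩ trivial
    exact hZ (g * h * g⁻¹ * h⁻¹) h1
  · intro g hg hgE
    apply hZ
    by_contra hgZ
    obtain ⟨y, -, hy⟩ := T.hyp.special ⟨g, g.2, hg⟩ trivial (fun h => hgZ h)
      ⟨D.z a0, T.z_mem a0 h0, D.z_mem_Qg a0⟩ ⟨a0, rfl⟩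
    have h1 := hgE ⟨(y : Γ), y.2.1⟩ y.2.2
    have h2 : (g : Γ) * y * (g : Γ)⁻¹ * (y : Γ)⁻¹ = D.z a0 := congrArg (fun t : TwData.Q0 D G => (t : Γ)) hy
    have h3 : (g : Γ) * y = y * g := congrArg Subtype.val h1
    rw [h3, mul_inv_cancel_right, mul_inv_cancel] at h2
    exact ha0 (D.z_inj _ h2.symm)

end Tw

/-- **The degrees of the covers of `²E₆(2)`.** -/
theorem minDeg_2E6_two {K : Type} [Field K] [Fintype K] (hK : Fintype.card K = 4) :
    MinDeg ↥(twistedE6 K 2) 64 := by
  classical
  have hq : IsPrimePow 2 := Nat.prime_two.isPrimePow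
  have hK' : Fintype.card K = 2 ^ 2 := by rw [hK]; norm_num
  obtain ⟨φ, hφ, hqq⟩ := exists_frob hq hK'
  haveI hs : IsSimpleGroup ↥(twistedE6 K 2) := (Cfsg.Agent.S1070.result hq hK').1
  have hna := (Cfsg.Agent.S1070.result hq hK').2
  have : Finite (GL chevE6.Idx K) := inferInstance
  obtain ⟨hchar, -⟩ := Cfsg.Agent.TwoESix.LeviA.exists_four K hK
  have F4 : Cfsg.Agent.TwoESix.LeviA.Four K φ := ⟨hK, hφ, fun t => by rw [hφ, hφ, hqq]⟩
  obtain ⟨b, hb⟩ := exists_distinct (q := 2) (n := 2) one_lt_two one_lt_two hφ hK'
  obtain ⟨b0, hb0⟩ := exists_tr_one (by omega) hb (iterate_frob_n hφ hK')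
  have T := of_trace (R K) (sg φ) (twistedE6 K 2) φ rhoI (fun i => (eps i : K)) 2 (sig_R φ) (sig_z φ)
    (fun g hg => twisted_le_fix φ hφ hqq hg) (z_mem hφ hqq) (sV_two fun t => by rw [hφ, hφ, hqq]) hb0
    (fun i t => lift_two (R K) (lift hφ hqq i t))
  have hc2 : 2 ^ Fintype.card (Fin 20) ≤ Nat.card {v : Fin 20 → K // (sV φ rhoI fun i => (eps i : K)) v = v} := by
    have h3 := card_le_pow (M := Fin 20 → K) (by omega) hb (s := sV φ rhoI fun i => (eps i : K))
      (sV_smul φ rhoI fun i => (eps i : K)) (sV_two fun t => by rw [hφ, hφ, hqq])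
    rw [Nat.card_fun, Nat.card_eq_fintype_card (α := K), Nat.card_eq_fintype_card (α := Fin 20), hK', ← pow_mul,
      mul_comm, pow_mul] at h3
    exact le_of_pow_le_pow_left₀ (by omega) (by omega) h3
  have hφ2 : ∀ a : K, φ a = a → a = 0 ∨ a = 1 := by
    intro a ha
    rw [hφ, sq] at ha
    rcases eq_or_ne a 0 with h | h
    · exact Or.inl h
    · right
      exact mul_right_cancel₀ h (by rw [ha, one_mul])
  refine minDeg_tw_two T (a0 := (1 : K)) (map_one φ) one_ne_zero (CharTwo.add_self_eq_zero 1) hφ2 ?_ ?_ ?_
  · intro s hs'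
    have h1 : s ∈ Subgroup.center ↥(twistedE6 K 2) := Subgroup.mem_center_iff.2 fun t => (hs' t).symm
    have h2 : Subgroup.center ↥(twistedE6 K 2) = ⊥ := by
      have hn : (Subgroup.center ↥(twistedE6 K 2)).Normal := inferInstance
      rcases hn.eq_bot_or_eq_top with h | h
      · exact h
      · exfalso
        apply hna
        exact ⟨⟨fun a b => (Subgroup.mem_center_iff.1 (h ▸ Subgroup.mem_top a : a ∈ Subgroup.center _) b).symm⟩⟩
    rw [h2] at h1
    exact Subgroup.mem_bot.1 h1
  · intro z hz
    exact Cfsg.Agent.TwoESix.LeviPerf.perf_top F4 (by rw [hz]; exact R_z 1)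
  · have h1 := T.card_Q
    rw [Subgroup.card_top] at h1
    have h4 : 2 ≤ Nat.card {a : K // φ a = a} := by
      have : Nontrivial {a : K // φ a = a} := ⟨⟨⟨0, map_zero φ⟩, ⟨1, map_one φ⟩, fun h => zero_ne_one (congrArg Subtype.val h)⟩⟩
      exact Finite.one_lt_card
    rw [Fintype.card_fin] at hc2
    have h5 := Nat.mul_le_mul hc2 h4
    calc 64 ^ 4 = 8 * (2 ^ 20 * 2) := by norm_num
      _ ≤ _ := Nat.mul_le_mul_left _ (h5.trans h1)

end Cfsg.Agent.H80.FpfB
end
end
end
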